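import Cfsg.Agent.Lib.Kazarin.Main
import Cfsg.Agent.Lib.Solvable.Maximal

/-!
Elements of `q`-power order with classes of prime-power size (Beltrán–Felipe, Camina):
* `image_mem_pCore`: such an element lies in `O_{q',q}`
* `exists_normal_pGroup`: two commuting classes of coprime sizes and a small product class
* `mem_center_of_normal_sylow`: the central part of a normal Sylow subgroup with mixed classes
* `commute_sylow_of_classes`: `q`-power classes on a normal Sylow `q`-subgroup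
-/

set_option autoImplicit false

namespace Cfsg.Agent.QBaer

open Subgroup
open scoped commutatorElement

universe u

variable {G : Type u} [Group G] [Finite G] {p q r s : ℕ}

omit [Finite G] in
theorem dvd_index_map {H : Type*} [Group H] (f : G →* H) (hf : Function.Surjective f) (x : G) :
    (centralizer ({f x} : Set H)).index ∣ (centralizer ({x} : Set G)).index := by
  refine dvd_trans (Subgroup.index_dvd_of_le ?_) ((centralizer ({x} : Set G)).index_map_dvd hf)
  rintro _ ⟨c, hc, rfl⟩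
  rw [Subgroup.mem_centralizer_singleton_iff, ← map_mul, ← map_mul,
    Subgroup.mem_centralizer_singleton_iff.1 hc]

omit [Finite G] in
theorem map_qel {H : Type*} [Group H] (f : G →* H) (hq : q.Prime) {x : G}
    (hx : ∃ k : ℕ, orderOf x = q ^ k) : ∃ k : ℕ, orderOf (f x) = q ^ k := by
  obtain ⟨k, hk⟩ := hx
  obtain ⟨j, -, hj⟩ := (Nat.dvd_prime_pow hq).1 (hk ▸ orderOf_map_dvd f x)
  exact ⟨j, hj⟩

omit [Finite G] in
theorem isPGroup_closure_of_commute [Fact q.Prime] {S : Set G}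
    (hc : ∀ a ∈ S, ∀ b ∈ S, a * b = b * a) (hS : ∀ a ∈ S, ∃ k : ℕ, orderOf a = q ^ k) :
    IsPGroup q ↥(closure S) := by
  have hcomm := Subgroup.isMulCommutative_closure hc
  rintro ⟨x, hx⟩
  suffices h : ∃ k : ℕ, x ^ q ^ k = 1 by
    obtain ⟨k, hk⟩ := h
    exact ⟨k, Subtype.ext (by simpa using hk)⟩
  induction hx using Subgroup.closure_induction with
  | mem a ha =>
    obtain ⟨k, hk⟩ := hS a ha
    exact ⟨k, hk ▸ pow_orderOf_eq_one a⟩
  | one => exact ⟨0, one_pow _⟩
  | mul a b ha hb iha ihb =>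
    obtain ⟨i, hi⟩ := iha
    obtain ⟨j, hj⟩ := ihb
    refine ⟨i + j, ?_⟩
    have hab : Commute a b :=
      congrArg Subtype.val (hcomm.is_comm.comm (⟨a, ha⟩ : ↥(closure S)) ⟨b, hb⟩)
    rw [hab.mul_pow, pow_add, pow_mul, hi, one_pow, one_mul, mul_comm (q ^ i), pow_mul, hj, one_pow]
  | inv a ha iha =>
    obtain ⟨i, hi⟩ := iha
    exact ⟨i, by rw [inv_pow, hi, inv_one]⟩

/-- A normal subset of pairwise commuting `q`-elements lies in `O_q`. -/
theorem mem_pCore_of_commute_conj [Fact q.Prime] {x : G} (hx : ∃ k : ℕ, orderOf x = q ^ k)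
    (hc : ∀ g h : G, Commute (g * x * g⁻¹) (h * x * h⁻¹)) : x ∈ Cfsg.pCore q G := by
  refine Cores.le_pCore (N := normalClosure ({x} : Set G)) inferInstance ?_ (subset_normalClosure rfl)
  refine isPGroup_closure_of_commute ?_ ?_
  · intro a ha b hb
    rw [Group.mem_conjugatesOfSet_iff] at ha hb
    obtain ⟨_, rfl, hca⟩ := ha
    obtain ⟨_, rfl, hcb⟩ := hb
    obtain ⟨g, rfl⟩ := isConj_iff.1 hca
    obtain ⟨h, rfl⟩ := isConj_iff.1 hcb
    exact hc g h
  · intro a ha
    rw [Group.mem_conjugatesOfSet_iff] at ha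
    obtain ⟨_, rfl, hca⟩ := ha
    obtain ⟨g, rfl⟩ := isConj_iff.1 hca
    exact map_qel (MulAut.conj g).toMonoidHom (Fact.out : q.Prime) hx

/-- A `q`-element with a class of `q`-power size lies in `O_q`. -/
theorem mem_pCore_self [hqf : Fact q.Prime] {x : G}
    (hx : ∃ k : ℕ, orderOf x = q ^ k) {a : ℕ}
    (ha : (centralizer ({x} : Set G)).index = q ^ a) : x ∈ Cfsg.pCore q G := by
  set π := QuotientGroup.mk' (Cfsg.pCore q G)
  have h : π x ∈ Cfsg.pCore q (G ⧸ Cfsg.pCore q G) := by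
    refine mem_pCore_of_commute_conj (map_qel π hqf.out hx) fun g h => ?_
    obtain ⟨g, rfl⟩ := QuotientGroup.mk'_surjective (Cfsg.pCore q G) g
    obtain ⟨h, rfl⟩ := QuotientGroup.mk'_surjective (Cfsg.pCore q G) h
    rw [← commutatorElement_eq_one_iff_commute, ← map_inv, ← map_inv, ← map_mul, ← map_mul, ← map_mul,
      ← map_mul, ← map_commutatorElement]
    exact (QuotientGroup.eq_one_iff _).2 (Kazarin.commutator_mem_pCore hqf.out ha g h)
  rw [Cores.pCore_quotient_self, mem_bot] at h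
  exact (QuotientGroup.eq_one_iff x).1 h

/-- With trivial `O_{q'}` a `q`-element of prime-power class lies in `O_q`. -/
theorem mem_pCore [hqf : Fact q.Prime] (hO : Cfsg.pPrimeCore q G = ⊥) {x : G}
    (hx : ∃ k : ℕ, orderOf x = q ^ k) (hr : r.Prime) {a : ℕ}
    (ha : (centralizer ({x} : Set G)).index = r ^ a) : x ∈ Cfsg.pCore q G := by
  haveI : Fact r.Prime := ⟨hr⟩
  rcases eq_or_ne r q with rfl | hne
  · exact mem_pCore_self hx ha
  · refine mem_pCore_of_commute_conj hx fun g h => ?_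
    have hm := Kazarin.commutator_mem_pCore hr ha g h
    have hbot : Cfsg.pCore r G = ⊥ := le_bot_iff.1 (hO ▸ Cores.le_pPrimeCore inferInstance (by
      obtain ⟨n, hn⟩ := IsPGroup.iff_card.1 (Cores.isPGroup_pCore r G)
      rw [hn]
      exact ((Nat.coprime_primes hr hqf.out).2 hne).pow_left n))
    rw [hbot, mem_bot] at hm
    exact commutatorElement_eq_one_iff_commute.1 hm

/-- A `q`-element of prime-power class lies in `O_{q',q}`. -/
theorem image_mem_pCore [hqf : Fact q.Prime] {x : G}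
    (hx : ∃ k : ℕ, orderOf x = q ^ k) (hr : r.Prime) {a : ℕ}
    (ha : (centralizer ({x} : Set G)).index = r ^ a) :
    QuotientGroup.mk' (Cfsg.pPrimeCore q G) x ∈ Cfsg.pCore q (G ⧸ Cfsg.pPrimeCore q G) := by
  obtain ⟨j, -, hj⟩ := (Nat.dvd_prime_pow hr).1
    (ha ▸ dvd_index_map _ (QuotientGroup.mk'_surjective (Cfsg.pPrimeCore q G)) x)
  exact mem_pCore (Cores.pPrimeCore_quotient_self q) (map_qel _ hqf.out hx) hr hj

theorem card_conjugatesOf (x : G) : Nat.card (conjugatesOf x) = (centralizer ({x} : Set G)).index := by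
  let f : G ⧸ centralizer ({x} : Set G) → conjugatesOf x :=
    Quotient.lift (fun g => ⟨g * x * g⁻¹, isConj_iff.2 ⟨g, rfl⟩⟩) fun a b h => Subtype.ext (by
      have h' : a⁻¹ * b ∈ centralizer ({x} : Set G) := QuotientGroup.leftRel_apply.1 h
      rw [Subgroup.mem_centralizer_singleton_iff] at h'
      show a * x * a⁻¹ = b * x * b⁻¹
      calc a * x * a⁻¹ = a * (x * (a⁻¹ * b)) * b⁻¹ := by group
        _ = a * ((a⁻¹ * b) * x) * b⁻¹ := by rw [← h']
        _ = b * x * b⁻¹ := by group)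
  refine (Nat.card_congr (Equiv.ofBijective f ⟨?_, ?_⟩)).symm
  · rintro ⟨a⟩ ⟨b⟩ h
    have h' : a * x * a⁻¹ = b * x * b⁻¹ := congrArg Subtype.val h
    refine QuotientGroup.eq.2 ?_
    rw [Subgroup.mem_centralizer_singleton_iff]
    calc a⁻¹ * b * x = a⁻¹ * (b * x * b⁻¹) * b := by group
      _ = a⁻¹ * (a * x * a⁻¹) * b := by rw [h']
      _ = x * (a⁻¹ * b) := by group
  · rintro ⟨c, hc⟩
    obtain ⟨g, hg⟩ := isConj_iff.1 hc
    exact ⟨⟦g⟧, Subtype.ext hg⟩

/-- Two classes of coprime sizes are simultaneously conjugate in pairs. -/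
theorem exists_conj_pair {x y : G}
    (hco : ((centralizer ({x} : Set G)).index).Coprime (centralizer ({y} : Set G)).index) (g h : G) :
    ∃ k : G, k * x * k⁻¹ = g * x * g⁻¹ ∧ k * y * k⁻¹ = h * y * h⁻¹ := by
  obtain ⟨c, hc, d, hd, he⟩ := Solvable.exists_mul_of_coprime_index (H := centralizer ({y} : Set G))
    (K := centralizer ({x} : Set G)) hco.symm (g⁻¹ * h)
  rw [Subgroup.mem_centralizer_singleton_iff] at hc hd
  refine ⟨g * c, ?_, ?_⟩
  · calc g * c * x * (g * c)⁻¹ = g * (c * x) * c⁻¹ * g⁻¹ := by group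
      _ = g * x * g⁻¹ := by rw [hc]; group
  · have hh : h = g * c * d := by rw [mul_assoc, ← he]; group
    rw [hh]
    calc g * c * y * (g * c)⁻¹ = g * c * (y * d) * d⁻¹ * c⁻¹ * g⁻¹ := by group
      _ = g * c * (d * y) * d⁻¹ * c⁻¹ * g⁻¹ := by rw [hd]
      _ = g * c * d * y * (g * c * d)⁻¹ := by group

/-- If the class of `x * y` is no bigger than that of `x` then the commutators of `y` lie in a normal
subgroup of order dividing the class size of `x`. -/
theorem exists_normal_pGroup [hrf : Fact r.Prime] {x y : G} {a : ℕ}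
    (hx : (centralizer ({x} : Set G)).index = r ^ a)
    (hco : ((centralizer ({x} : Set G)).index).Coprime (centralizer ({y} : Set G)).index)
    (hz : (centralizer ({x * y} : Set G)).index ∣ r ^ a) :
    ∃ W : Subgroup G, W.Normal ∧ IsPGroup r W ∧ ∀ g : G, g * y * g⁻¹ * y⁻¹ ∈ W := by
  classical
  set A := conjugatesOf x with hA
  have hAconj : ∀ {z : G}, z ∈ A ↔ ∃ g : G, g * x * g⁻¹ = z := fun {z} => isConj_iff
  have hprod : ∀ z ∈ A, ∀ h : G, z * (h * y * h⁻¹) ∈ conjugatesOf (x * y) := by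
    intro z hzA h
    obtain ⟨g, rfl⟩ := hAconj.1 hzA
    obtain ⟨k, hk1, hk2⟩ := exists_conj_pair hco g h
    exact isConj_iff.2 ⟨k, by rw [← hk1, ← hk2]; group⟩
  have hcard : Nat.card (conjugatesOf (x * y)) ≤ Nat.card A := by
    rw [hA, card_conjugatesOf, card_conjugatesOf, hx]
    exact Nat.le_of_dvd (pow_pos hrf.out.pos a) hz
  have hbij : ∀ h : G, Function.Bijective
      (fun z : A => (⟨(z : G) * (h * y * h⁻¹), hprod z z.2 h⟩ : conjugatesOf (x * y))) := fun h =>
    Function.Injective.bijective_of_nat_card_le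
      (fun u v e => Subtype.ext (mul_right_cancel (congrArg Subtype.val e))) hcard
  -- right translations fixing `A`
  let M : Submonoid G :=
    { carrier := {w | ∀ z ∈ A, z * w ∈ A}
      one_mem' := fun z hz => by rwa [mul_one]
      mul_mem' := fun {u v} hu hv z hz => by rw [← mul_assoc]; exact hv _ (hu z hz) }
  let W : Subgroup G :=
    { toSubmonoid := M
      inv_mem' := fun {u} hu => by
        have : u⁻¹ ∈ Submonoid.powers u := mem_powers_iff_mem_zpowers.2
          (Subgroup.inv_mem _ (Subgroup.mem_zpowers u))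
        exact (Submonoid.powers_le (P := M)).2 hu this }
  have hmemW : ∀ {w : G}, w ∈ W ↔ ∀ z ∈ A, z * w ∈ A := Iff.rfl
  have hWn : W.Normal := ⟨fun w hw g => by
    rw [hmemW]
    intro z hzA
    obtain ⟨k, rfl⟩ := hAconj.1 hzA
    obtain ⟨l, hl⟩ := hAconj.1 (hmemW.1 hw (g⁻¹ * k * x * (g⁻¹ * k)⁻¹) (hAconj.2 ⟨_, rfl⟩))
    refine hAconj.2 ⟨g * l, ?_⟩
    calc g * l * x * (g * l)⁻¹ = g * (l * x * l⁻¹) * g⁻¹ := by group
      _ = g * (g⁻¹ * k * x * (g⁻¹ * k)⁻¹ * w) * g⁻¹ := by rw [hl]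
      _ = k * x * k⁻¹ * (g * w * g⁻¹) := by group⟩
  refine ⟨W, hWn, ?_, fun g => hmemW.2 fun z hzA => ?_⟩
  · have hpre : (QuotientGroup.mk : G → G ⧸ W) ⁻¹' (QuotientGroup.mk '' A) = A := by
      refine Set.Subset.antisymm ?_ (Set.subset_preimage_image _ _)
      rintro v ⟨z, hzA, hzv⟩
      have := hmemW.1 (QuotientGroup.eq.1 hzv) z hzA
      rwa [mul_inv_cancel_left] at this
    have hd : Nat.card W ∣ Nat.card A := by
      rw [← hpre, Nat.card_congr (QuotientGroup.preimageMkEquivSubgroupProdSet W _), Nat.card_prod]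
      exact dvd_mul_right _ _
    rw [hA, card_conjugatesOf, hx] at hd
    obtain ⟨j, -, hj⟩ := (Nat.dvd_prime_pow hrf.out).1 hd
    exact IsPGroup.of_card hj
  · obtain ⟨⟨z', hz'⟩, he⟩ := (hbij 1).2 ⟨z * (g * y * g⁻¹), hprod z hzA g⟩
    have he' : z' * (1 * y * 1⁻¹) = z * (g * y * g⁻¹) := congrArg Subtype.val he
    rw [one_mul, inv_one, mul_one] at he'
    have : z * (g * y * g⁻¹ * y⁻¹) = z' := by rw [← mul_assoc, ← he', mul_inv_cancel_right]
    rw [this]; exact hz'

/-- A commutator of a `q`-element in a normal `r`-subgroup it centralises is trivial. -/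
theorem eq_one_of_mem_pGroup [hqf : Fact q.Prime] [hrf : Fact r.Prime] (hne : r ≠ q) {y : G}
    (hy : ∃ k : ℕ, orderOf y = q ^ k) {W : Subgroup G} (hW : IsPGroup r W)
    (hyW : W ≤ centralizer ({y} : Set G)) {g : G} (hg : g * y * g⁻¹ * y⁻¹ ∈ W) :
    g * y * g⁻¹ * y⁻¹ = 1 := by
  set w := g * y * g⁻¹ * y⁻¹ with hw
  obtain ⟨k, hk⟩ := hy
  have hwy : Commute w y := Subgroup.mem_centralizer_singleton_iff.1 (hyW hg)
  have h1 : w ^ q ^ k = 1 := by
    have e : (w * y) ^ q ^ k = 1 := by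
      rw [hw, inv_mul_cancel_right, conj_pow, ← hk, pow_orderOf_eq_one]; group
    rwa [hwy.mul_pow, ← hk, pow_orderOf_eq_one, mul_one, hk] at e
  obtain ⟨j, hj⟩ := hW ⟨w, hg⟩
  have hj' : w ^ r ^ j = 1 := by simpa using congrArg Subtype.val hj
  have h2 := Nat.dvd_gcd (orderOf_dvd_of_pow_eq_one h1) (orderOf_dvd_of_pow_eq_one hj')
  rwa [((Nat.coprime_primes hqf.out hrf.out).2 hne.symm).pow k j, Nat.dvd_one, orderOf_eq_one_iff] at h2

/-- Every element of a normal Sylow subgroup with class of size prime to `u` has a conjugate by the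
Sylow subgroup centralised by a given `u`-Sylow subgroup. -/
theorem exists_conj_fixed [Fact q.Prime] {Q : Sylow q G} {u : ℕ} [hu : Fact u.Prime] (huq : u ≠ q)
    (T : Sylow u G) {w : G} {k : ℕ} (hwk : (centralizer ({w} : Set G)).index = q ^ k) :
    ∃ m ∈ (Q : Subgroup G), ∀ t ∈ (T : Subgroup G), Commute t (m * w * m⁻¹) := by
  obtain ⟨T₀⟩ : Nonempty (Sylow u (centralizer ({w} : Set G))) := inferInstance
  have hidx : ¬ u ∣ ((T₀ : Subgroup (centralizer ({w} : Set G))).map (centralizer ({w} : Set G)).subtype).index := by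
    rw [Subgroup.index_map_subtype]
    refine hu.out.not_dvd_mul T₀.not_dvd_index ?_
    rw [hwk]
    exact fun h => huq ((Nat.prime_dvd_prime_iff_eq hu.out Fact.out).1 (hu.out.dvd_of_dvd_pow h))
  let T₁ : Sylow u G := (T₀.isPGroup'.map _).toSylow hidx
  obtain ⟨g, hg⟩ := MulAction.exists_smul_eq G T T₁
  have hco : (centralizer ({w} : Set G)).index.Coprime (Q : Subgroup G).index := by
    rw [hwk]
    exact ((Fact.out : q.Prime).coprime_iff_not_dvd.2 Q.not_dvd_index).pow_left k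
  obtain ⟨m, hm, c, hc, hgc⟩ := Solvable.exists_mul_of_coprime_index hco g⁻¹
  refine ⟨m, hm, fun t ht => ?_⟩
  have hmem : g * t * g⁻¹ ∈ (T₁ : Subgroup G) := by
    rw [← hg]
    exact ⟨t, ht, rfl⟩
  have hcT : g * t * g⁻¹ ∈ centralizer ({w} : Set G) := map_subtype_le _ hmem
  have hc' : c * (g * t * g⁻¹) * c⁻¹ ∈ centralizer ({w} : Set G) :=
    mul_mem (mul_mem hc hcT) (inv_mem hc)
  rw [Subgroup.mem_centralizer_singleton_iff] at hc'
  have e : c * (g * t * g⁻¹) * c⁻¹ = m⁻¹ * t * m := by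
    have hg' : g = c⁻¹ * m⁻¹ := by rw [← inv_inv g, hgc, mul_inv_rev]
    rw [hg']; group
  rw [e] at hc'
  show t * (m * w * m⁻¹) = m * w * m⁻¹ * t
  calc t * (m * w * m⁻¹) = m * (m⁻¹ * t * m * w) * m⁻¹ := by group
    _ = m * (w * (m⁻¹ * t * m)) * m⁻¹ := by rw [hc']
    _ = m * w * m⁻¹ * t := by group

/-- A subgroup meeting every conjugacy class of a finite `q`-group outside a central subgroup, and
containing it, is everything. -/
theorem eq_top_of_conj_cover {X : Type*} [Group X] [Finite X] [Fact q.Prime] (hX : IsPGroup q X)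
    (M : Subgroup X) (h : ∀ w : X, w ∈ M ∨ ∃ m : X, m * w * m⁻¹ ∈ M) : M = ⊤ := by
  haveI := hX.isNilpotent
  by_contra hne
  obtain ⟨N, hN, hMN⟩ := (eq_top_or_exists_le_coatom M).resolve_left hne
  haveI : N.Normal := NormalizerCondition.normal_of_coatom N Group.normalizerCondition_of_isNilpotent hN
  refine hN.1 (eq_top_iff.2 fun w _ => ?_)
  rcases h w with hw | ⟨m, hm⟩
  · exact hMN hw
  · have := (inferInstance : N.Normal).conj_mem _ (hMN hm) m⁻¹
    simpa [mul_assoc] using this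

/-- If every element of a normal Sylow `q`-subgroup has a prime-power class and one of them is not
central there, then the centre of that subgroup is central in the group. -/
theorem mem_center_of_normal_sylow [hqf : Fact q.Prime] (Q : Sylow q G) [hQn : (Q : Subgroup G).Normal]
    (hcl : ∀ w ∈ (Q : Subgroup G), ∃ r k : ℕ, r.Prime ∧ (centralizer ({w} : Set G)).index = r ^ k)
    {w₀ : G} (hw₀ : w₀ ∈ (Q : Subgroup G)) (hw₀c : w₀ ∉ centralizer ((Q : Subgroup G) : Set G)) {y : G}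
    (hy : y ∈ (Q : Subgroup G)) (hyc : y ∈ centralizer ((Q : Subgroup G) : Set G)) :
    (centralizer ({y} : Set G)) = ⊤ := by
  set Z := (Q : Subgroup G) ⊓ centralizer ((Q : Subgroup G) : Set G) with hZ
  have hclass : ∀ w ∈ (Q : Subgroup G), w ∉ Z → ∃ k, (centralizer ({w} : Set G)).index = q ^ k := by
    intro w hw hwZ
    obtain ⟨r, k, hr, hk⟩ := hcl w hw
    rcases eq_or_ne r q with rfl | hne
    · exact ⟨k, hk⟩
    exfalso
    obtain ⟨T₀⟩ : Nonempty (Sylow q (centralizer ({w} : Set G))) := inferInstance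
    have hidx : ¬ q ∣ ((T₀ : Subgroup (centralizer ({w} : Set G))).map (centralizer ({w} : Set G)).subtype).index := by
      rw [Subgroup.index_map_subtype]
      refine hqf.out.not_dvd_mul T₀.not_dvd_index ?_
      rw [hk]
      exact fun h => hne ((Nat.prime_dvd_prime_iff_eq hqf.out hr).1 (hqf.out.dvd_of_dvd_pow h)).symm
    letI := Sylow.unique_of_normal Q hQn
    let T₁ : Sylow q G := (T₀.isPGroup'.map _).toSylow hidx
    have : (Q : Subgroup G) ≤ centralizer ({w} : Set G) := by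
      rw [Subsingleton.elim Q T₁]
      exact map_subtype_le _
    exact hwZ ⟨hw, fun v hv => Subgroup.mem_centralizer_singleton_iff.1 (this hv)⟩
  have hyu : ∀ u : ℕ, u.Prime → ¬ u ∣ (centralizer ({y} : Set G)).index := by
    intro u hu hdvd
    rcases eq_or_ne u q with rfl | huq
    · have : (Q : Subgroup G) ≤ centralizer ({y} : Set G) := fun v hv =>
        Subgroup.mem_centralizer_singleton_iff.2 (hyc v hv)
      exact Q.not_dvd_index (hdvd.trans (Subgroup.index_dvd_of_le this))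
    haveI : Fact u.Prime := ⟨hu⟩
    obtain ⟨T⟩ : Nonempty (Sylow u G) := inferInstance
    set F := (Q : Subgroup G) ⊓ centralizer ((T : Subgroup G) : Set G) with hF
    have hfix : ∀ w ∈ (Q : Subgroup G), w ∉ Z → ∃ m ∈ (Q : Subgroup G), m * w * m⁻¹ ∈ F := by
      intro w hw hwZ
      obtain ⟨k, hk⟩ := hclass w hw hwZ
      obtain ⟨m, hm, hmc⟩ := exists_conj_fixed (Q := Q) huq T hk
      exact ⟨m, hm, (Q : Subgroup G).mul_mem ((Q : Subgroup G).mul_mem hm hw) ((Q : Subgroup G).inv_mem hm),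
        fun t ht => hmc t ht⟩
    have htop : (Z ⊔ F).subgroupOf (Q : Subgroup G) = ⊤ := by
      refine eq_top_of_conj_cover Q.isPGroup' _ fun w => ?_
      by_cases hwZ : (w : G) ∈ Z
      · exact Or.inl (le_sup_left (a := Z) (b := F) hwZ)
      · obtain ⟨m, hm, hmF⟩ := hfix w w.2 hwZ
        exact Or.inr ⟨⟨m, hm⟩, le_sup_right (a := Z) (b := F) hmF⟩
    have hdec : ∀ w ∈ (Q : Subgroup G), ∃ z ∈ Z, ∃ f ∈ F, w = z * f := by
      intro w hw
      have h : w ∈ Z ⊔ F := subgroupOf_eq_top.1 htop hw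
      obtain ⟨z, hz, f, hf, e⟩ := (Subgroup.mem_sup_of_normal_left (s := Z) (t := F)).1 h
      exact ⟨z, hz, f, hf, e.symm⟩
    obtain ⟨z, hz, f, hf, rfl⟩ := hdec w₀ hw₀
    have hfZ : f ∉ Z := fun h => hw₀c (mul_mem hz h).2
    have hfy : f * y ∉ Z := fun h => hfZ (by
      have h' := mul_mem h (inv_mem (⟨hy, hyc⟩ : y ∈ Z))
      rwa [mul_inv_cancel_right] at h')
    obtain ⟨m, hm, hmF⟩ := hfix _ (mul_mem hf.1 hy) hfy
    obtain ⟨z', hz', f', hf', rfl⟩ := hdec m hm
    have e : z' * f' * (f * y) * (z' * f')⁻¹ = f' * (f * y) * f'⁻¹ := by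
      have : z' * (f' * (f * y) * f'⁻¹) = f' * (f * y) * f'⁻¹ * z' :=
        (hz'.2 _ (mul_mem (mul_mem hf'.1 (mul_mem hf.1 hy)) (inv_mem hf'.1))).symm
      calc z' * f' * (f * y) * (z' * f')⁻¹ = z' * (f' * (f * y) * f'⁻¹) * z'⁻¹ := by group
        _ = f' * (f * y) * f'⁻¹ := by rw [this, mul_inv_cancel_right]
    rw [e] at hmF
    have hyF : y ∈ F := by
      have h' := mul_mem (inv_mem hf) (mul_mem (mul_mem (inv_mem hf') hmF) hf')
      have e' : f⁻¹ * (f'⁻¹ * (f' * (f * y) * f'⁻¹) * f') = y := by group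
      rwa [e'] at h'
    exact T.not_dvd_index (hdvd.trans (Subgroup.index_dvd_of_le fun t ht =>
      Subgroup.mem_centralizer_singleton_iff.2 (hyF.2 t ht)))
  rw [← Subgroup.index_eq_one]
  by_contra hne
  obtain ⟨u, hu, hd⟩ := Nat.exists_prime_and_dvd hne
  exact hyu u hu hd

/-- If all elements of a normal Sylow `q`-subgroup have `q`-power classes, it is centralised by
every Sylow subgroup for another prime. -/
theorem commute_sylow_of_classes [Fact q.Prime] (Q : Sylow q G)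
    (hcl : ∀ w ∈ (Q : Subgroup G), ∃ k, (centralizer ({w} : Set G)).index = q ^ k)
    (hQn : (Q : Subgroup G).Normal) {u : ℕ} [Fact u.Prime] (huq : u ≠ q) (T : Sylow u G) :
    (T : Subgroup G) ≤ centralizer ((Q : Subgroup G) : Set G) := by
  set F := (Q : Subgroup G) ⊓ centralizer ((T : Subgroup G) : Set G) with hF
  have htop : F.subgroupOf (Q : Subgroup G) = ⊤ := by
    refine eq_top_of_conj_cover Q.isPGroup' _ fun w => ?_
    obtain ⟨k, hk⟩ := hcl w w.2
    obtain ⟨m, hm, hmc⟩ := exists_conj_fixed (Q := Q) huq T hk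
    exact Or.inr ⟨⟨m, hm⟩, ⟨(Q : Subgroup G).mul_mem ((Q : Subgroup G).mul_mem hm w.2)
      ((Q : Subgroup G).inv_mem hm), fun t ht => hmc t ht⟩⟩
  intro t ht v hv
  exact ((subgroupOf_eq_top.1 htop hv).2 t ht).symm

end Cfsg.Agent.QBaer
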