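import Cfsg.Agent.Lib.PGroup.NormalAbelian
import Cfsg.Agent.Lib.PGroup.CyclicMaximal
import Cfsg.Prelude

/-!
2-groups without a normal four group (namespace `Cfsg.Agent.OrbitPower`).

* `cyclic_or_index_two`: such a group is cyclic or has a cyclic subgroup `⟨a⟩` of index 2 and `g` outside
  it with `g a g⁻¹ = a ^ j`, `j ≡ 3 (mod 4)`
-/

set_option autoImplicit false

namespace Cfsg.Agent.OrbitPower

open Subgroup

variable {P : Type*} [Group P] [Finite P]

/-- There is no normal four group. -/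
def NoFour (P : Type*) [Group P] : Prop :=
  ∀ E : Subgroup P, E.Normal → Nat.card E = 4 → (∀ x ∈ E, x ^ 2 = 1) → False

theorem isCyclic_of_normal_abelian (hP : IsPGroup 2 P) (hno : NoFour P) {A : Subgroup P} [A.Normal]
    (hA : ∀ a ∈ A, ∀ b ∈ A, a * b = b * a) : IsCyclic A := by
  haveI : Fact (Nat.Prime 2) := ⟨Nat.prime_two⟩
  let Ω : Subgroup P :=
    { carrier := {x | x ∈ A ∧ x ^ 2 = 1}
      one_mem' := ⟨A.one_mem, one_pow 2⟩
      mul_mem' := fun {x y} hx hy => ⟨A.mul_mem hx.1 hy.1, by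
        rw [(show Commute x y from hA x hx.1 y hy.1).mul_pow, hx.2, hy.2, one_mul]⟩
      inv_mem' := fun {x} hx => ⟨A.inv_mem hx.1, by rw [inv_pow, hx.2, inv_one]⟩ }
  haveI hΩn : Ω.Normal := ⟨fun x hx g => ⟨Subgroup.Normal.conj_mem inferInstance x hx.1 g, by
    rw [conj_pow, hx.2, mul_one, mul_inv_cancel]⟩⟩
  obtain ⟨k, hk⟩ := PGroup.exists_card_eq_pow (hP.to_subgroup Ω)
  by_cases hk2 : 2 ≤ k
  · obtain ⟨E, hEn, hEΩ, hE⟩ := PGroup.exists_normal_le_card hP hk 2 hk2
    exact (hno E hEn (by rw [hE]; norm_num) fun x hx => (hEΩ hx).2).elim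
  · letI : CommGroup A := { mul_comm := fun a b => Subtype.ext (hA a a.2 b b.2) }
    classical
    haveI := Fintype.ofFinite A
    refine isCyclic_of_card_pow_eq_one_le fun n hn => ?_
    obtain ⟨m, hm⟩ := PGroup.exists_card_eq_pow (hP.to_subgroup A)
    -- count the solutions of `x ^ 2 ^ i = 1`
    have hΩc : ∀ i, Nat.card (powMonoidHom (2 ^ i) : A →* A).ker ≤ 2 ^ i := by
      intro i
      induction i with
      | zero =>
        refine le_of_eq ?_
        have : (powMonoidHom (2 ^ 0) : A →* A).ker = ⊥ := by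
          ext x; simp [MonoidHom.mem_ker]
        rw [this]; simp
      | succ i ih =>
        set f := (powMonoidHom 2 : A →* A).domRestrict (powMonoidHom (2 ^ (i + 1)) : A →* A).ker
        have h1 : Nat.card f.ker ≤ 2 := by
          refine le_trans (Nat.card_le_card_of_injective
            (fun x : f.ker => (⟨((x : (powMonoidHom (2 ^ (i + 1)) : A →* A).ker) : A), by
              refine ⟨((x : (powMonoidHom (2 ^ (i + 1)) : A →* A).ker) : A).2, ?_⟩
              exact congrArg Subtype.val (MonoidHom.mem_ker.1 x.2)⟩ : Ω)) ?_) ?_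
          · intro x y h
            have h' : (((x : (powMonoidHom (2 ^ (i + 1)) : A →* A).ker) : A) : P) = ((y : (powMonoidHom (2 ^ (i + 1)) : A →* A).ker) : A) :=
              congrArg (fun t : Ω => (t : P)) h
            exact Subtype.ext (Subtype.ext (Subtype.ext h'))
          · rw [hk]
            exact le_trans (Nat.pow_le_pow_right two_pos (show k ≤ 1 by omega)) (le_of_eq (pow_one 2))
        have h2 : f.range ≤ (powMonoidHom (2 ^ i) : A →* A).ker := by
          rintro _ ⟨x, rfl⟩
          have hx := MonoidHom.mem_ker.1 x.2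
          simp only [powMonoidHom_apply] at hx
          simpa [f, MonoidHom.mem_ker, ← pow_mul, ← pow_succ'] using hx
        calc Nat.card (powMonoidHom (2 ^ (i + 1)) : A →* A).ker
            = f.ker.index * Nat.card f.ker := f.ker.index_mul_card.symm
          _ ≤ 2 ^ i * 2 := Nat.mul_le_mul (by
              rw [Subgroup.index_ker]
              exact (Subgroup.card_le_of_le h2).trans ih) h1
          _ = 2 ^ (i + 1) := (pow_succ 2 i).symm
    obtain ⟨i, -, hi⟩ := (Nat.dvd_prime_pow Nat.prime_two).1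
      (show Nat.gcd n (Nat.card A) ∣ 2 ^ m from hm ▸ Nat.gcd_dvd_right _ _)
    refine le_trans ?_ ((hΩc i).trans (hi ▸ Nat.le_of_dvd hn (Nat.gcd_dvd_left _ _)))
    rw [Nat.card_eq_fintype_card, Fintype.card_subtype]
    refine Finset.card_le_card fun x hx => ?_
    simp only [Finset.mem_filter, Finset.mem_univ, true_and, MonoidHom.mem_ker, powMonoidHom_apply] at hx ⊢
    rw [← hi]
    exact orderOf_dvd_iff_pow_eq_one.1
      (Nat.dvd_gcd (orderOf_dvd_of_pow_eq_one hx) (orderOf_dvd_natCard x))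

/-- A non-cyclic 2-group without a normal four group has a cyclic subgroup of index 2, inverted or
inverted up to the central involution by the elements outside it. -/
theorem cyclic_or_index_two (hP : IsPGroup 2 P) (hno : NoFour P) :
    IsCyclic P ∨ ∃ (a g : P) (m : ℕ) (j : ℤ), orderOf a = 2 ^ m ∧ 2 ≤ m ∧ (zpowers a).index = 2 ∧
      g ∉ zpowers a ∧ g * a * g⁻¹ = a ^ j ∧ (4 : ℤ) ∣ j - 3 := by
  haveI : Fact (Nat.Prime 2) := ⟨Nat.prime_two⟩
  classical
  obtain ⟨A, hAmem, hAmax⟩ := (Set.toFinite {A : Subgroup P | A.Normal ∧ ∀ a ∈ A, ∀ b ∈ A, a * b = b * a}).exists_maximal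
    ⟨⊥, inferInstance, fun a ha b hb => by rw [mem_bot.1 ha, mem_bot.1 hb]⟩
  haveI := hAmem.1
  have hC := PGroup.centralizer_eq_of_maximal_normal_abelian hP hAmem.2
    fun B hB hBc hle => le_antisymm (hAmax ⟨hB, hBc⟩ hle) hle
  obtain ⟨a, rfl⟩ := (A.isCyclic_iff_exists_zpowers_eq_top).1 (isCyclic_of_normal_abelian hP hno hAmem.2)
  by_cases htop : zpowers a = ⊤
  · exact Or.inl ⟨⟨a, fun x => Subgroup.mem_zpowers_iff.1 (htop.symm ▸ mem_top x)⟩⟩
  right
  obtain ⟨m, hm⟩ := PGroup.exists_card_eq_pow (hP.to_subgroup (zpowers a))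
  rw [Nat.card_zpowers] at hm
  have hconj : ∀ w : P, ∃ j : ℤ, w * a * w⁻¹ = a ^ j := fun w => by
    obtain ⟨j, hj⟩ := mem_zpowers_iff.1 (Subgroup.Normal.conj_mem inferInstance a (mem_zpowers a) w)
    exact ⟨j, hj.symm⟩
  have hnc : ∀ w : P, w ∉ zpowers a → ¬ Commute w a := by
    intro w hw hc
    refine hw (hC ▸ mem_centralizer_iff.2 fun x hx => ?_)
    obtain ⟨l, rfl⟩ := mem_zpowers_iff.1 hx
    exact (hc.symm.zpow_left l).eq
  -- the only non-trivial involutory actions
  have key : ∀ b : P, b ∉ zpowers a → b ^ 2 ∈ zpowers a →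
      2 ≤ m ∧ ∃ j : ℤ, b * a * b⁻¹ = a ^ j ∧ (4 : ℤ) ∣ j - 3 := by
    intro b hb hb2
    obtain ⟨hm2, i, h⟩ := PGroup.two_local hm (Subgroup.Normal.conj_mem inferInstance a (mem_zpowers a) b) hb2 (hnc b hb)
    refine ⟨hm2, ?_⟩
    have e : (b * a ^ i) * a * (b * a ^ i)⁻¹ = b * a * b⁻¹ := by group
    rw [e] at h
    rcases h with ⟨-, hj⟩ | ⟨-, hj⟩ | ⟨hm3, hsq, hj⟩ | ⟨hm3, -, hj⟩
    · exact ⟨-1, by rw [hj, zpow_neg_one], by norm_num⟩
    · exact ⟨-1, by rw [hj, zpow_neg_one], by norm_num⟩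
    · exfalso
      -- the modular case has a normal four group
      set h0 := b * a ^ i
      set M := zpowers a ⊔ zpowers b
      set z := a ^ 2 ^ (m - 1) with hz
      have hzz : z * z = 1 := by
        rw [hz, ← pow_add, ← two_mul, ← pow_succ', show m - 1 + 1 = m by omega, ← hm, pow_orderOf_eq_one]
      have hha : h0 * a * h0⁻¹ = a * z := by
        rw [e, hj, add_comm, pow_succ', hz]
      have hhz : Commute h0 z := by
        rw [hz]
        have : h0 * z * h0⁻¹ = z := by
          rw [hz, ← conj_pow, hha, ((Commute.refl a).pow_right _).mul_pow, ← hz]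
          have h2 : (2 : ℕ) ∣ 2 ^ (m - 1) := dvd_pow_self 2 (by omega)
          obtain ⟨t, ht⟩ := h2
          rw [ht, pow_mul z, sq, hzz, one_pow, mul_one]
        exact mul_inv_eq_iff_eq_mul.1 this
      have hh0 : h0 ∉ zpowers a := fun hh => hb (by
        simpa [h0] using mul_mem hh (inv_mem (zpow_mem (mem_zpowers a) i)))
      have hz1 : z ≠ 1 := fun h1 => by
        have := Nat.le_of_dvd (pow_pos two_pos _) (orderOf_dvd_of_pow_eq_one h1)
        rw [hm] at this
        have := (Nat.pow_le_pow_iff_right Nat.one_lt_two).1 this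
        omega
      have hzA : z ∈ zpowers a := pow_mem (mem_zpowers a) _
      let E : Subgroup P :=
      { carrier := {1, z, h0, z * h0}
        one_mem' := Or.inl rfl
        mul_mem' := by
          have hh : h0 * h0 = 1 := by rw [← sq]; exact hsq
          have q1 : h0 * z = z * h0 := hhz.eq
          have q2 : z * h0 * z = h0 := by rw [mul_assoc, q1, ← mul_assoc, hzz, one_mul]
          have q3 : h0 * (z * h0) = z := by rw [← mul_assoc, q1, mul_assoc, hh, mul_one]
          rintro x y (rfl | rfl | rfl | rfl) (rfl | rfl | rfl | rfl) <;>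
            simp [hzz, hh, q1, ← mul_assoc, q2] <;>
            simp [mul_assoc, hh, q3, hzz]
        inv_mem' := by
          have hh : h0⁻¹ = h0 := inv_eq_of_mul_eq_one_right (by rw [← sq]; exact hsq)
          have hzi : z⁻¹ = z := inv_eq_of_mul_eq_one_right hzz
          rintro x (rfl | rfl | rfl | rfl) <;> simp [hh, hzi, hhz.eq] }
      have hEmem : ∀ x, x ∈ E ↔ x = 1 ∨ x = z ∨ x = h0 ∨ x = z * h0 := fun x => Iff.rfl
      have hEc : Nat.card E = 4 := by
        show Nat.card ({1, z, h0, z * h0} : Set P) = 4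
        have h1 : h0 ≠ 1 := fun h => hh0 (h ▸ one_mem _)
        have h2 : z * h0 ≠ 1 := fun h => hh0 (by rw [← inv_eq_of_mul_eq_one_right h]; exact inv_mem hzA)
        have h3 : z * h0 ≠ z := by simp [h1]
        have h4 : z * h0 ≠ h0 := by simp [hz1]
        have h5 : z ≠ h0 := fun h => hh0 (h ▸ hzA)
        rw [Nat.card_coe_set_eq, Set.ncard_insert_of_notMem (by simp [hz1.symm, h1.symm, h2.symm]),
          Set.ncard_insert_of_notMem (by simp [h5, h3.symm]), Set.ncard_pair h4.symm]
      refine hno E ⟨?_⟩ hEc ?_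
      · -- conjugates stay in the coset of `h0`
        intro x hx w
        have hwz : w * z * w⁻¹ = z := by
          obtain ⟨r, hr⟩ := hconj w
          have hr2 : (a ^ r) ^ 2 ^ (m - 1) = z := by
            have hcases : z ^ r = 1 ∨ z ^ r = z := by
              rcases Int.even_or_odd r with ⟨t, rfl⟩ | ⟨t, rfl⟩
              · left; rw [← two_mul, zpow_mul, zpow_two, hzz, one_zpow]
              · right; rw [zpow_add, zpow_mul, zpow_two, hzz, one_zpow, one_mul, zpow_one]
            have e2 : (a ^ r) ^ 2 ^ (m - 1) = z ^ r := by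
              rw [hz, ← zpow_natCast, ← zpow_natCast, ← zpow_mul, ← zpow_mul, mul_comm]
            rcases hcases with h1 | h1
            · exfalso
              refine hz1 ?_
              have h3 : w * z * w⁻¹ = 1 := by rw [hz, ← conj_pow, hr, e2, h1]
              simpa using h3
            · rw [e2, h1]
          rw [hz, ← conj_pow, hr, hr2]
        suffices hw : w * h0 * w⁻¹ = h0 ∨ w * h0 * w⁻¹ = z * h0 by
          rcases (hEmem x).1 hx with rfl | rfl | rfl | rfl
          · simp [hEmem]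
          · exact (hEmem _).2 (Or.inr (Or.inl hwz))
          · rcases hw with h | h
            · exact (hEmem _).2 (Or.inr (Or.inr (Or.inl h)))
            · exact (hEmem _).2 (Or.inr (Or.inr (Or.inr h)))
          · have e3 : w * (z * h0) * w⁻¹ = (w * z * w⁻¹) * (w * h0 * w⁻¹) := by group
            rw [e3, hwz]
            rcases hw with h | h
            · exact (hEmem _).2 (Or.inr (Or.inr (Or.inr (by rw [h]))))
            · exact (hEmem _).2 (Or.inr (Or.inr (Or.inl (by rw [h, ← mul_assoc, hzz, one_mul]))))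
        -- `w h0 w⁻¹` acts on `a` as `h0` does
        set k0 := w * h0 * w⁻¹ with hk0
        obtain ⟨r, hr⟩ := hconj w
        obtain ⟨r', hr'⟩ := hconj w⁻¹
        have hk : k0 * a * k0⁻¹ = a * z := by
          have h1 : k0 * a * k0⁻¹ = w * (h0 * (w⁻¹ * a * w⁻¹⁻¹) * h0⁻¹) * w⁻¹ := by
            rw [hk0]; group
          rw [h1, hr', ← conj_zpow, hha, ← conj_zpow]
          have h2 : w * (a * z) * w⁻¹ = a ^ r * z := by
            rw [show w * (a * z) * w⁻¹ = (w * a * w⁻¹) * (w * z * w⁻¹) by group, hr, hwz]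
          rw [h2, ((show Commute (a ^ r) z from ((Commute.refl a).pow_right _).zpow_left r)).mul_zpow,
            ← zpow_mul]
          have h3 : a ^ (r * r') = a := by
            have h4 : w * (w⁻¹ * a * w⁻¹⁻¹) * w⁻¹ = a := by group
            rw [hr', ← conj_zpow, hr, ← zpow_mul] at h4
            exact h4
          rw [h3]
          have h5 : z ^ r' = z := by
            rcases Int.even_or_odd r' with ⟨t, rfl⟩ | ⟨t, rfl⟩
            · exfalso
              refine hz1 ?_
              have h6 : w⁻¹ * z * w⁻¹⁻¹ = z ^ (t + t) := by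
                rw [hz, ← conj_pow, hr', ← zpow_natCast, ← zpow_natCast, ← zpow_mul, ← zpow_mul, mul_comm]
              rw [← two_mul, zpow_mul, zpow_two, hzz, one_zpow] at h6
              rw [show z = w * (w⁻¹ * z * w⁻¹⁻¹) * w⁻¹ by group, h6, mul_one, mul_inv_cancel]
            · rw [zpow_add, zpow_mul, zpow_two, hzz, one_zpow, one_mul, zpow_one]
          rw [h5]
        -- so `k0 * h0` centralises `a`
        have hcomm : Commute (k0 * h0⁻¹) a := by
          have h1 : h0⁻¹ * a * h0 = a * z := by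
            have hi : h0⁻¹ = h0 := inv_eq_of_mul_eq_one_right (by rw [← sq]; exact hsq)
            rw [hi]
            nth_rewrite 2 [← hi]
            exact hha
          have h2 : k0 * h0⁻¹ * a * (k0 * h0⁻¹)⁻¹ = a := by
            have h3 : k0 * h0⁻¹ * a * (k0 * h0⁻¹)⁻¹ = k0 * (h0⁻¹ * a * h0) * k0⁻¹ := by group
            rw [h3, h1]
            have h4 : k0 * z * k0⁻¹ = z := by
              rw [hz, ← conj_pow, hk, ((Commute.refl a).pow_right _).mul_pow, ← hz]
              obtain ⟨t, ht⟩ := dvd_pow_self 2 (show m - 1 ≠ 0 by omega)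
              rw [ht, pow_mul z, sq, hzz, one_pow, mul_one]
            rw [show k0 * (a * z) * k0⁻¹ = (k0 * a * k0⁻¹) * (k0 * z * k0⁻¹) by group, hk, h4,
              mul_assoc, hzz, mul_one]
          exact mul_inv_eq_iff_eq_mul.1 h2
        obtain ⟨l, hl⟩ := mem_zpowers_iff.1 (not_not.1 fun hx' => hnc _ hx' hcomm)
        have hk0' : k0 = a ^ l * h0 := by rw [hl, inv_mul_cancel_right]
        have hk2 : (a ^ l * h0) * (a ^ l * h0) = 1 := by
          rw [← hk0', ← sq, hk0, conj_pow, hsq, mul_one, mul_inv_cancel]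
        -- hence `a ^ (2 l + l 2 ^ (m-1)) = 1`
        have hhl : h0 * a ^ l = (a * z) ^ l * h0 := by
          rw [← hha, conj_zpow]; group
        have hk3 : a ^ (l * ((2 : ℤ) + 2 ^ (m - 1))) = 1 := by
          rw [mul_assoc, ← mul_assoc h0, hhl, mul_assoc ((a * z) ^ l), ← sq, hsq, mul_one,
            ((Commute.refl a).pow_right _).mul_zpow, ← mul_assoc, ← zpow_add, ← zpow_natCast a,
            ← zpow_mul, ← zpow_add] at hk2
          rw [← hk2]; congr 1; push_cast; ring
        have hdvd := orderOf_dvd_iff_zpow_eq_one.2 hk3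
        rw [hm] at hdvd
        push_cast at hdvd
        obtain ⟨d, hd⟩ : ∃ d, m = d + 3 := ⟨m - 3, by omega⟩
        subst hd
        have hco : IsCoprime ((2 : ℤ) ^ (d + 2)) (1 + 2 ^ (d + 1)) := by
          refine IsCoprime.pow_left ⟨-(2 : ℤ) ^ d, 1, ?_⟩
          ring
        have e4 : l * ((2 : ℤ) + 2 ^ (d + 3 - 1)) = 2 * (l * (1 + 2 ^ (d + 1))) := by
          rw [show d + 3 - 1 = d + 2 from rfl]; ring
        rw [e4, show ((2 : ℤ) ^ (d + 3)) = 2 * 2 ^ (d + 2) from pow_succ' 2 _] at hdvd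
        obtain ⟨t, ht⟩ := hco.dvd_of_dvd_mul_right ((mul_dvd_mul_iff_left two_ne_zero).1 hdvd)
        have hl2 : a ^ l = z ^ t := by
          rw [hz, ht, zpow_mul, show d + 3 - 1 = d + 2 from rfl, ← zpow_natCast a (2 ^ (d + 2))]
          norm_cast
        rw [hk0', hl2]
        rcases Int.even_or_odd t with ⟨u, rfl⟩ | ⟨u, rfl⟩
        · left; rw [← two_mul, zpow_mul, zpow_two, hzz, one_zpow, one_mul]
        · right; rw [zpow_add, zpow_mul, zpow_two, hzz, one_zpow, one_mul, zpow_one]
      · intro x hx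
        have hh : h0 ^ 2 = 1 := hsq
        rcases (hEmem x).1 hx with rfl | rfl | rfl | rfl
        · simp
        · rw [sq, hzz]
        · exact hh
        · rw [(show Commute z h0 from hhz.symm).mul_pow, hh, sq, hzz, one_mul]
    · refine ⟨2 ^ (m - 1) - 1, ?_, ?_⟩
      · rw [hj, ← zpow_natCast, Nat.cast_sub (Nat.one_le_two_pow), Nat.cast_pow]
        norm_num
      · obtain ⟨d, hd⟩ : ∃ d, m - 1 = d + 2 := ⟨m - 3, by omega⟩
        rw [hd]; exact ⟨2 ^ d - 1, by ring⟩
  -- two such actions compose to a third one, which is impossible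
  have hmod : ∀ (u v : P) (ju jv : ℤ), u * a * u⁻¹ = a ^ ju → v * a * v⁻¹ = a ^ jv →
      (4 : ℤ) ∣ ju * jv - 1 → u * v ∉ zpowers a → (u * v) ^ 2 ∈ zpowers a → False := by
    intro u v ju jv hu hv h4 hnot hsq
    obtain ⟨hm2, j, hj, hj3⟩ := key _ hnot hsq
    have e : u * v * a * (u * v)⁻¹ = a ^ (ju * jv) := by
      rw [show u * v * a * (u * v)⁻¹ = u * (v * a * v⁻¹) * u⁻¹ by group, hv, ← conj_zpow, hu,
        ← zpow_mul]
    rw [e, ← mul_inv_eq_one, ← zpow_sub, ← orderOf_dvd_iff_zpow_eq_one, hm] at hj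
    have h42 : (4 : ℤ) ∣ ((2 ^ m : ℕ) : ℤ) := by
      push_cast
      exact Dvd.dvd.trans (by norm_num) (pow_dvd_pow (2 : ℤ) hm2)
    have h4' := h42.trans hj
    omega
  set π := QuotientGroup.mk' (zpowers a)
  have hπ : ∀ x, π x = 1 ↔ x ∈ zpowers a := fun x => QuotientGroup.eq_one_iff x
  have hexp : ∀ w : P, w ^ 2 ∈ zpowers a := by
    intro w
    by_contra hw
    have hex : ∃ k, w ^ 2 ^ k ∈ zpowers a := by
      obtain ⟨k, hk⟩ := hP w
      exact ⟨k, hk ▸ one_mem _⟩
    obtain ⟨k, hk⟩ : ∃ k, Nat.find hex = k + 2 := by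
      refine ⟨Nat.find hex - 2, ?_⟩
      have h0 := Nat.find_spec hex
      have : ¬ Nat.find hex ≤ 1 := by
        intro hle
        interval_cases h : Nat.find hex
        · exact hw (pow_mem (by simpa using h0) 2)
        · exact hw (by simpa using h0)
      omega
    have h1 : w ^ 2 ^ (k + 1) ∉ zpowers a := Nat.find_min hex (by omega)
    have h2 : (w ^ 2 ^ (k + 1)) ^ 2 ∈ zpowers a := by
      rw [← pow_mul, ← pow_succ, show k + 1 + 1 = Nat.find hex by omega]
      exact Nat.find_spec hex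
    set u := w ^ 2 ^ k
    have e : w ^ 2 ^ (k + 1) = u * u := by rw [← sq, ← pow_mul, ← pow_succ]
    rw [e] at h1 h2
    obtain ⟨r, hr⟩ := hconj u
    refine hmod u u r r hr hr ?_ h1 h2
    have hodd : Odd r := by
      rcases Int.even_or_odd r with ⟨t, rfl⟩ | h
      · exfalso
        have hlt : 2 ≤ m := (key _ h1 h2).1
        have h5 : (a ^ 2 ^ (m - 1)) = 1 := by
          have h6 : u * a ^ 2 ^ (m - 1) * u⁻¹ = 1 := by
            rw [← conj_pow, hr, ← zpow_natCast, ← zpow_mul, ← orderOf_dvd_iff_zpow_eq_one, hm]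
            refine ⟨t, ?_⟩
            push_cast
            rw [show (2 : ℤ) ^ m = 2 * 2 ^ (m - 1) by rw [← pow_succ']; congr 1; omega]
            ring
          simpa using h6
        have := Nat.le_of_dvd (pow_pos two_pos _) (orderOf_dvd_of_pow_eq_one h5)
        rw [hm] at this
        have := (Nat.pow_le_pow_iff_right Nat.one_lt_two).1 this
        omega
      · exact h
    obtain ⟨t, rfl⟩ := hodd
    exact ⟨t * t + t, by ring⟩
  obtain ⟨g, -, hg⟩ := SetLike.exists_of_lt (lt_top_iff_ne_top.2 htop)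
  obtain ⟨hm2, j, hj, hj3⟩ := key g hg (hexp g)
  refine ⟨a, g, m, j, hm, hm2, ?_, hg, hj, hj3⟩
  rw [Subgroup.index_eq_two_iff]
  refine ⟨g, fun x => ?_⟩
  by_cases hx : x ∈ zpowers a
  · refine Or.inr ⟨hx, fun h => hg ?_⟩
    simpa using mul_mem (inv_mem hx) h
  · refine Or.inl ⟨?_, hx⟩
    by_contra hxg
    obtain ⟨-, jx, hjx, hjx3⟩ := key x hx (hexp x)
    refine hmod x g jx j hjx hj ?_ hxg (hexp _)
    obtain ⟨c, hc⟩ := hjx3
    obtain ⟨d, hd⟩ := hj3
    rw [show jx = 4 * c + 3 by omega, show j = 4 * d + 3 by omega]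
    exact ⟨4 * c * d + 3 * c + 3 * d + 2, by ring⟩

end Cfsg.Agent.OrbitPower
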