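import Cfsg.Agent.Lib.CharApp.Burnside
import Cfsg.Agent.Lib.Coprime.Generation
import Cfsg.Agent.S0675

/-!
A perfect group with the same orbits as an irreducible Sylow subgroup (namespace `Cfsg.Agent.OrbitPower`).

* `Setup φ P p q`: the hypotheses
* `Setup.false_of_blocks`: a system of `p` independent blocks permuted transitively by `P` is impossible
* `Setup.false_of_index_two`: `P` has no reducible subgroup of index 2
* `Setup.false_of_elementary`: `P` has no normal elementary abelian subgroup of order `p ^ 2`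
-/

set_option autoImplicit false

namespace Cfsg.Agent.OrbitPower

open Subgroup

variable {D V : Type*} [Group D] [CommGroup V]

/-- `U` is invariant under `P`. -/
def Inv (φ : D →* MulAut V) (P : Subgroup D) (U : Subgroup V) : Prop :=
  ∀ g ∈ P, ∀ u ∈ U, φ g u ∈ U

/-- A perfect group acting faithfully and coprimely on an elementary abelian `q`-group with the same orbits
as an irreducible Sylow `p`-subgroup `P`. -/
structure Setup (φ : D →* MulAut V) (P : Subgroup D) (p q : ℕ) : Prop where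
  hp : p.Prime
  hq : q.Prime
  inj : Function.Injective φ
  perfect : commutator D = ⊤
  nt : Nontrivial D
  pg : IsPGroup p P
  sylow : ¬ p ∣ P.index
  ndvd : ¬ q ∣ Nat.card D
  expo : ∀ v : V, v ^ q = 1
  orbit : ∀ d v, ∃ g ∈ P, φ g v = φ d v
  irr : ∀ U : Subgroup V, Inv φ P U → U = ⊥ ∨ U = ⊤

theorem eq_top_of_perfect_solvable {K : Type*} [Group K] [Finite K] (hK : commutator K = ⊤)
    [Group.IsSolvable K] : Subsingleton K := by
  rw [← not_nontrivial_iff_subsingleton]
  intro h
  exact (Group.IsSolvable.commutator_lt_top_of_nontrivial K).ne hK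

theorem range_perfect {K : Type*} [Group K] (f : D →* K) (h : commutator D = ⊤) :
    commutator f.range = ⊤ := by
  have h1 := Subgroup.map_commutator (⊤ : Subgroup D) ⊤ f.rangeRestrict
  rw [← commutator_def, h, Subgroup.map_top_of_surjective _ f.rangeRestrict_surjective] at h1
  rw [commutator_def]; exact h1.symm

theorem isSolvable_of_card_le_three {ι : Type*} [Finite ι] (h : Nat.card ι ≤ 3) :
    Group.IsSolvable (Equiv.Perm ι) := by
  have h2 : Nat.card (Equiv.Perm ι) ∣ 6 := by
    rw [Nat.card_perm, show (6 : ℕ) = Nat.factorial 3 from rfl]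
    exact Nat.factorial_dvd_factorial h
  obtain ⟨a, b, hab⟩ : ∃ a b, Nat.card (Equiv.Perm ι) = 2 ^ a * 3 ^ b := by
    have := Nat.le_of_dvd (by norm_num) h2
    interval_cases hc : Nat.card (Equiv.Perm ι) <;> norm_num at h2
    exacts [⟨0, 0, rfl⟩, ⟨1, 0, rfl⟩, ⟨0, 1, rfl⟩, ⟨1, 1, rfl⟩]
  exact CharApp.isSolvable_of_card_eq_prime_pow_mul 2 3 Nat.prime_two Nat.prime_three _ _ rfl a b hab

variable {φ : D →* MulAut V} {P : Subgroup D} {p q : ℕ}

theorem Setup.nontrivial_space (hS : Setup φ P p q) : Nontrivial V := by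
  obtain ⟨d, hd⟩ := @exists_ne D hS.nt 1
  by_contra h
  rw [not_nontrivial_iff_subsingleton] at h
  exact hd (hS.inj (MulEquiv.ext fun v => Subsingleton.elim _ _))

/-- Two factorisations over independent subgroups have the same supports. -/
theorem support_pair {ι : Type*} {W : ι → Subgroup V} (hind : iSupIndep W) {a b c e : ι}
    (hab : a ≠ b) {u v u' v' : V} (hu : u ∈ W a) (hu1 : u ≠ 1) (hv : v ∈ W b) (hu' : u' ∈ W c)
    (hv' : v' ∈ W e) (h : u * v = u' * v') : a = c ∨ a = e := by
  by_contra hno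
  push Not at hno
  refine hu1 (Subgroup.disjoint_def.1 (hind a) hu ?_)
  have hle : ∀ i, i ≠ a → W i ≤ ⨆ (j : ι) (_ : j ≠ a), W j := fun i hi => le_iSup₂ (f := fun j (_ : j ≠ a) => W j) i hi
  have hu2 : u = u' * v' * v⁻¹ := by rw [← h, mul_inv_cancel_right]
  rw [hu2]
  exact mul_mem (mul_mem (hle c hno.1.symm hu') (hle e hno.2.symm hv')) (inv_mem (hle b hab.symm hv))

/-- `p` independent blocks cannot be permuted transitively by `P`. -/
theorem Setup.false_of_blocks (hS : Setup φ P p q) [Finite D] {ι : Type*} [Finite ι]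
    (hι : Nat.card ι = p) (W : ι → Subgroup V) (hne : ∀ i, W i ≠ ⊥) (hind : iSupIndep W)
    (hperm : ∀ g ∈ P, ∀ i, ∃ j, (W i).map (φ g).toMonoidHom = W j)
    (htrans : ∀ i j, ∃ g ∈ P, (W i).map (φ g).toMonoidHom = W j) : False := by
  classical
  haveI := Fintype.ofFinite ι
  haveI : Fact p.Prime := ⟨hS.hp⟩
  have hWinj : Function.Injective W := by
    intro i j h
    by_contra hij
    have := hind i
    rw [h] at this
    exact hne j (disjoint_self.1 (this.mono_right (le_iSup₂ (f := fun k (_ : k ≠ i) => W k) j (Ne.symm hij))))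
  -- the images of blocks are blocks
  have hblk : ∀ d i, ∃ j, (W i).map (φ d).toMonoidHom = W j := by
    intro d i
    obtain ⟨u, hu, hu1⟩ := (W i).bot_or_exists_ne_one.resolve_left (hne i)
    have hmem : ∀ d, ∀ v ∈ W i, ∃ j, φ d v ∈ W j := by
      intro d v hv
      obtain ⟨g, hg, he⟩ := hS.orbit d v
      obtain ⟨j, hj⟩ := hperm g hg i
      exact ⟨j, hj ▸ ⟨v, hv, he⟩⟩
    have hmem' : ∀ d k, ∀ v ∈ W k, ∃ j, φ d v ∈ W j := by
      intro d k v hv
      obtain ⟨g, hg, he⟩ := hS.orbit d v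
      obtain ⟨j, hj⟩ := hperm g hg k
      exact ⟨j, hj ▸ ⟨v, hv, he⟩⟩
    obtain ⟨j, hj⟩ := hmem d u hu
    refine ⟨j, le_antisymm ?_ ?_⟩
    · rintro _ ⟨v, hv, rfl⟩
      show φ d v ∈ W j
      by_contra hvj
      obtain ⟨k, hk⟩ := hmem d v hv
      obtain ⟨l, hl⟩ := hmem d (u * v) (mul_mem hu hv)
      rw [map_mul] at hl
      have hjk : j ≠ k := fun h => hvj (h ▸ hk)
      have hu0 : φ d u ≠ 1 := fun h => hu1 (EmbeddingLike.map_eq_one_iff.1 h)
      have hv0 : φ d v ≠ 1 := fun h => hvj (h ▸ one_mem _)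
      rcases support_pair hind hjk hj hu0 hk hl (one_mem (W l)) (by rw [mul_one]) with rfl | rfl <;>
      · exact hvj ((mul_mem_cancel_left hj).1 hl)
    · intro w hw
      obtain ⟨k, hk⟩ := hmem' d⁻¹ j w hw
      rw [map_inv] at hk
      refine ⟨(φ d)⁻¹ w, ?_, by simp⟩
      by_contra hki
      obtain ⟨l, hl⟩ := hmem' d⁻¹ j (φ d u * w) (mul_mem hj hw)
      rw [map_inv, map_mul, MulAut.inv_apply_self] at hl
      have hik : i ≠ k := fun h => hki (by rw [h]; exact hk)
      rcases support_pair hind hik hu hu1 hk hl (one_mem (W l)) (by rw [mul_one]) with rfl | rfl <;>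
      · exact hki ((mul_mem_cancel_left hu).1 hl)
  choose f hf using hblk
  have hfmul : ∀ d e i, f (d * e) i = f d (f e i) := by
    intro d e i
    apply hWinj
    rw [← hf, ← hf, ← hf, Subgroup.map_map, map_mul]
    rfl
  have hfone : ∀ i, f 1 i = i := by
    intro i
    apply hWinj
    rw [← hf, map_one]
    exact Subgroup.map_id _
  let π : D →* Equiv.Perm ι :=
    { toFun := fun d =>
        ⟨f d, f d⁻¹, fun i => by rw [← hfmul, inv_mul_cancel, hfone],
          fun i => by rw [← hfmul, mul_inv_cancel, hfone]⟩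
      map_one' := Equiv.ext hfone
      map_mul' := fun d e => Equiv.ext (hfmul d e) }
  have hπ : ∀ d i, π d i = f d i := fun _ _ => rfl
  have hperf := range_perfect π hS.perfect
  obtain ⟨i0, i1, hi01⟩ : ∃ i j : ι, i ≠ j := by
    haveI : Nontrivial ι := Finite.one_lt_card_iff_nontrivial.1 (hι ▸ hS.hp.one_lt)
    exact exists_pair_ne ι
  have htr : MulAction.IsPretransitive π.range ι := ⟨fun i j => by
    obtain ⟨g, -, he⟩ := htrans i j
    refine ⟨⟨π g, g, rfl⟩, hWinj ?_⟩
    show W (π g i) = W j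
    rw [hπ, ← hf, he]⟩
  have htriv : Group.IsSolvable π.range → False := fun hsol => by
    haveI := hsol
    have := eq_top_of_perfect_solvable hperf
    obtain ⟨g, hg⟩ := MulAction.exists_smul_eq π.range i0 i1
    rw [Subsingleton.elim g 1, one_smul] at hg
    exact hi01 hg
  by_cases h3 : Nat.card ι ≤ 3
  · haveI := isSolvable_of_card_le_three h3
    exact htriv (Group.isSolvable_of_isSolvable_injective π.range.subtype_injective)
  rcases S0675.result (by rw [← Nat.card_eq_fintype_card, hι]; exact hS.hp) π.range with h | h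
  · exact htriv h
  -- the image of `P` is commutative
  have hcomm : ∀ g ∈ P, ∀ h ∈ P, π g * π h = π h * π g := by
    obtain ⟨k, hk⟩ := PGroup.exists_card_eq_pow (hS.pg.map π)
    have hdvd : p ^ k ∣ Nat.factorial p := by
      rw [← hk, ← hι, ← Nat.card_perm]; exact Subgroup.card_subgroup_dvd_card _
    have hk1 : k ≤ 1 := by
      by_contra hk2
      have h2 : p * p ∣ p * Nat.factorial (p - 1) := by
        rw [Nat.mul_factorial_pred hS.hp.ne_zero, ← sq]
        exact (pow_dvd_pow p (by omega : 2 ≤ k)).trans hdvd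
      have := (Nat.Prime.dvd_factorial hS.hp).1 ((mul_dvd_mul_iff_left hS.hp.ne_zero).1 h2)
      have := hS.hp.two_le
      omega
    haveI : IsCyclic (P.map π) := by
      interval_cases k
      · haveI : Subsingleton (P.map π) := (Nat.card_eq_one_iff_unique.1 (by rw [hk, pow_zero])).1
        exact isCyclic_of_subsingleton
      · exact isCyclic_of_prime_card (p := p) (by rw [hk, pow_one])
    intro g hg h hh
    exact congrArg Subtype.val
      ((IsCyclic.commutative (α := ↥(P.map π))).is_comm.comm ⟨π g, g, hg, rfl⟩ ⟨π h, h, hh, rfl⟩)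
  -- an element of `P` is determined by the image of one block
  have hdet : ∀ g ∈ P, ∀ h ∈ P, π g i0 = π h i0 → π g = π h := by
    intro g hg h hh he
    ext i
    obtain ⟨c, hc, hci⟩ := htrans i0 i
    have hi : π c i0 = i := hWinj (by rw [hπ, ← hf, hci])
    rw [← hi, ← Equiv.Perm.mul_apply, hcomm g hg c hc, Equiv.Perm.mul_apply, he,
      ← Equiv.Perm.mul_apply, hcomm c hc h hh, Equiv.Perm.mul_apply]
  -- three-element bound
  refine h3 ?_
  obtain ⟨u, hu, hu1⟩ := (W i0).bot_or_exists_ne_one.resolve_left (hne i0)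
  obtain ⟨v, hv, hv1⟩ := (W i1).bot_or_exists_ne_one.resolve_left (hne i1)
  obtain ⟨g1, hg1, hg1i⟩ := htrans i1 i0
  have hg1i' : π g1 i1 = i0 := hWinj (by rw [hπ, ← hf, hg1i])
  have hbound : ∀ k, k = i0 ∨ k = i1 ∨ k = π g1 i0 := by
    intro k
    by_contra hk
    push Not at hk
    rw [MulAction.is_two_pretransitive_iff] at h
    obtain ⟨⟨_, d, rfl⟩, hd0, hd1⟩ := h hi01 hk.1.symm
    obtain ⟨g, hg, he⟩ := hS.orbit d (u * v)
    have hm : ∀ (x : D) (i : ι) (w : V), w ∈ W i → φ x w ∈ W (π x i) := fun x i w hw => by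
      rw [hπ, ← hf]; exact ⟨w, hw, rfl⟩
    rw [map_mul, map_mul] at he
    have hd0' : π d i0 = i0 := hd0
    have hd1' : π d i1 = k := hd1
    have a1 : π g i0 = i0 ∨ π g i0 = k := by
      have := support_pair hind ((π g).injective.ne hi01) (hm g i0 u hu)
        (fun h => hu1 (EmbeddingLike.map_eq_one_iff.1 h)) (hm g i1 v hv) (hm d i0 u hu) (hm d i1 v hv) he
      rwa [hd0', hd1'] at this
    have a2 : π g i1 = i0 ∨ π g i1 = k := by
      have := support_pair hind ((π g).injective.ne hi01.symm) (hm g i1 v hv)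
        (fun h => hv1 (EmbeddingLike.map_eq_one_iff.1 h)) (hm g i0 u hu) (hm d i0 u hu) (hm d i1 v hv)
        (by rw [mul_comm]; exact he)
      rwa [hd0', hd1'] at this
    rcases a1 with a1 | a1
    · have : π g = 1 := by
        rw [hdet g hg 1 (one_mem P) (by rw [a1, map_one]; rfl), map_one]
      rcases a2 with a2 | a2 <;> rw [this, Equiv.Perm.one_apply] at a2
      · exact hi01 a2.symm
      · exact hk.2.1 a2.symm
    · rcases a2 with a2 | a2
      · obtain ⟨c, hc, hci⟩ := htrans i0 i1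
        have hc' : π c i0 = i1 := hWinj (by rw [hπ, ← hf, hci])
        have : π g = π g1 := by
          have h1 : π (g * c) i0 = π (g1 * c) i0 := by
            rw [map_mul, map_mul, Equiv.Perm.mul_apply, Equiv.Perm.mul_apply, hc', a2, hg1i']
          have h2 := hdet _ (mul_mem hg hc) _ (mul_mem hg1 hc) h1
          rwa [map_mul, map_mul, mul_left_inj] at h2
        exact hk.2.2 (by rw [← a1, this])
      · exact hi01 ((π g).injective (a1.trans a2.symm))
  rw [Nat.card_eq_fintype_card, ← Finset.card_univ]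
  refine le_trans (Finset.card_le_card (t := {i0, i1, π g1 i0}) fun k _ => ?_) Finset.card_le_three
  simpa using hbound k

/-- A subgroup of index 2 in `P` acts irreducibly. -/
theorem Setup.false_of_index_two (hS : Setup φ P p q) [Finite D] [Finite V] (hp2 : p = 2)
    {M : Subgroup D} (hM : M ≤ P) {g : D} (hg : g ∈ P) (hnorm : ∀ m ∈ M, g⁻¹ * m * g ∈ M)
    (hgg : g * g ∈ M) (hcov : ∀ x ∈ P, x ∈ M ∨ g⁻¹ * x ∈ M)
    (U : Subgroup V) (hU : Inv φ M U) (hUb : U ≠ ⊥) (hUt : U ≠ ⊤) : False := by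
  obtain ⟨U0, hU0⟩ := (Set.toFinite {U : Subgroup V | Inv φ M U ∧ U ≠ ⊥ ∧ U ≠ ⊤}).exists_minimal
    ⟨U, hU, hUb, hUt⟩
  obtain ⟨⟨hI, hb, ht⟩, hmin⟩ := hU0
  set U1 := U0.map (φ g).toMonoidHom with hU1
  have hI1 : Inv φ M U1 := by
    rintro m hm _ ⟨u, hu, rfl⟩
    refine ⟨φ (g⁻¹ * m * g) u, hI _ (hnorm m hm) u hu, ?_⟩
    show φ g (φ (g⁻¹ * m * g) u) = φ m (φ g u)
    rw [← MulAut.mul_apply, ← MulAut.mul_apply, ← map_mul, ← map_mul]
    congr 2; group
  have hmove : ∀ x ∈ P, U0.map (φ x).toMonoidHom = U0 ∨ U0.map (φ x).toMonoidHom = U1 := by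
    have hfix : ∀ m ∈ M, U0.map (φ m).toMonoidHom = U0 := by
      intro m hm
      refine le_antisymm (by rintro _ ⟨u, hu, rfl⟩; exact hI m hm u hu) fun u hu => ?_
      exact ⟨φ m⁻¹ u, hI _ (inv_mem hm) u hu, by simp [map_inv]⟩
    intro x hx
    rcases hcov x hx with h | h
    · exact Or.inl (hfix x h)
    · right
      have h2 := hfix _ h
      conv_rhs => rw [hU1, ← h2, Subgroup.map_map]
      have : φ x = φ g * φ (g⁻¹ * x) := by rw [← map_mul, mul_inv_cancel_left]
      rw [this]; rfl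
  have hmove1 : ∀ x ∈ P, U1.map (φ x).toMonoidHom = U0 ∨ U1.map (φ x).toMonoidHom = U1 := by
    intro x hx
    have : U1.map (φ x).toMonoidHom = U0.map (φ (x * g)).toMonoidHom := by
      rw [hU1, Subgroup.map_map, map_mul]; rfl
    rw [this]
    exact hmove _ (mul_mem hx hg)
  have hne1 : U1 ≠ ⊥ := by
    rw [hU1, Ne, Subgroup.map_eq_bot_iff_of_injective _ (φ g).injective]; exact hb
  have hdiff : U1 ≠ U0 := by
    intro he
    rcases hS.irr U0 (fun x hx u hu => by
      rcases hmove x hx with h | h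
      · exact h ▸ ⟨u, hu, rfl⟩
      · exact (h.trans he) ▸ ⟨u, hu, rfl⟩) with h | h
    · exact hb h
    · exact ht h
  have hdis : Disjoint U0 U1 := by
    rw [disjoint_iff]
    by_contra hne
    have hle : U0 ≤ U0 ⊓ U1 := hmin ⟨fun m hm u hu => ⟨hI m hm u hu.1, hI1 m hm u hu.2⟩, hne,
      fun h => ht (top_unique (h.ge.trans inf_le_left))⟩ inf_le_left
    refine hdiff (SetLike.coe_injective (Set.eq_of_subset_of_ncard_le (hle.trans inf_le_right) ?_
      (Set.toFinite _))).symm
    rw [← Nat.card_coe_set_eq, ← Nat.card_coe_set_eq]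
    exact le_of_eq (Subgroup.card_map_of_injective (φ g).injective)
  refine hS.false_of_blocks (ι := Bool) (by rw [Nat.card_eq_fintype_card, Fintype.card_bool, hp2])
    (fun b => cond b U1 U0) (by rintro (_ | _) <;> assumption) ?_ ?_ ?_
  · rintro (_ | _)
    · refine hdis.mono_right (iSup₂_le ?_)
      rintro (_ | _) h
      · exact absurd rfl h
      · exact le_rfl
    · refine hdis.symm.mono_right (iSup₂_le ?_)
      rintro (_ | _) h
      · exact le_rfl
      · exact absurd rfl h
  · intro x hx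
    rintro (_ | _)
    · rcases hmove x hx with h | h
      exacts [⟨false, h⟩, ⟨true, h⟩]
    · rcases hmove1 x hx with h | h
      exacts [⟨false, h⟩, ⟨true, h⟩]
  · have hid : ∀ W : Subgroup V, W.map (φ 1).toMonoidHom = W := fun W => by
      rw [map_one]; exact Subgroup.map_id W
    rintro (_ | _) (_ | _)
    · exact ⟨1, one_mem P, hid _⟩
    · exact ⟨g, hg, rfl⟩
    · refine ⟨g⁻¹, inv_mem hg, ?_⟩
      show U1.map _ = U0
      rw [hU1, Subgroup.map_map]
      convert Subgroup.map_id U0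
      ext v; simp [map_inv]
    · exact ⟨1, one_mem P, hid _⟩

/-- `P` has no normal elementary abelian subgroup of order `p ^ 2`. -/
theorem Setup.false_of_elementary (hS : Setup φ P p q) [Finite D] [Finite V] {A : Subgroup D}
    (hAP : A ≤ P) (hAn : ∀ g ∈ P, ∀ a ∈ A, g * a * g⁻¹ ∈ A) (hA : Nat.card A = p ^ 2)
    (hAe : ∀ a ∈ A, a ^ p = 1) (hAc : ∀ a ∈ A, ∀ b ∈ A, a * b = b * a) : False := by
  classical
  haveI : Fact p.Prime := ⟨hS.hp⟩
  -- fixed spaces of the lines
  let fixd : Subgroup D → Subgroup V := fun L =>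
    { carrier := {v | ∀ a ∈ L, φ a v = v}
      one_mem' := fun a _ => map_one _
      mul_mem' := fun {u v} hu hv a ha => by rw [map_mul, hu a ha, hv a ha]
      inv_mem' := fun {u} hu a ha => by rw [map_inv, hu a ha] }
  have hmem : ∀ L v, v ∈ fixd L ↔ ∀ a ∈ L, φ a v = v := fun L v => Iff.rfl
  let ι := {L : Subgroup D // L ≤ A ∧ Nat.card L = p ∧ fixd L ≠ ⊥}
  -- conjugation
  have hmap : ∀ g ∈ P, ∀ L ≤ A, L.map (MulAut.conj g).toMonoidHom ≤ A ∧
      (fixd L).map (φ g).toMonoidHom = fixd (L.map (MulAut.conj g).toMonoidHom) := by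
    intro g hg L hL
    refine ⟨by rintro _ ⟨a, ha, rfl⟩; exact hAn g hg a (hL ha), le_antisymm ?_ ?_⟩
    · rintro _ ⟨v, hv, rfl⟩ _ ⟨a, ha, rfl⟩
      show φ (g * a * g⁻¹) (φ g v) = φ g v
      rw [← MulAut.mul_apply, ← map_mul, inv_mul_cancel_right, map_mul, MulAut.mul_apply, hv a ha]
    · intro v hv
      refine ⟨φ g⁻¹ v, fun a ha => ?_, by simp [map_inv]⟩
      have h := hv _ ⟨a, ha, rfl⟩
      simp only [MulEquiv.coe_toMonoidHom, MulAut.conj_apply] at h
      conv_rhs => rw [← h]
      rw [← MulAut.mul_apply, ← MulAut.mul_apply, ← map_mul, ← map_mul]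
      congr 2; group
  have hfA : fixd A = ⊥ := by
    rcases hS.irr (fixd A) (fun g hg v hv a ha => by
      have h1 : φ (g⁻¹ * a * g) v = v := hv _ (by simpa using hAn g⁻¹ (inv_mem hg) a ha)
      calc φ a (φ g v) = φ g (φ (g⁻¹ * a * g) v) := by
            rw [← MulAut.mul_apply, ← MulAut.mul_apply, ← map_mul, ← map_mul]; congr 2; group
        _ = φ g v := by rw [h1]) with h | h
    · exact h
    · exfalso
      have hbot : A = ⊥ := by
        rw [eq_bot_iff]
        exact fun a ha => hS.inj (MulEquiv.ext fun v => by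
          rw [map_one]; exact (h ▸ mem_top v : v ∈ fixd A) a ha)
      rw [hbot, Subgroup.card_bot] at hA
      exact absurd hA.symm (Nat.one_lt_pow two_ne_zero hS.hp.one_lt).ne'
  -- two different lines generate `A`
  have hpair : ∀ L L' : Subgroup D, L ≤ A → L' ≤ A → Nat.card L = p → Nat.card L' = p → L ≠ L' →
      L ⊔ L' = A := by
    intro L L' hL hL' hc hc' hne
    refine Subgroup.eq_of_le_of_card_ge (sup_le hL hL') ?_
    obtain ⟨i, -, hi⟩ := (Nat.dvd_prime_pow hS.hp).1 (hA ▸ Subgroup.card_dvd_of_le (sup_le hL hL'))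
    have h1 : 2 ≤ i := by
      by_contra hlt
      have hle : Nat.card (L ⊔ L' : Subgroup D) ≤ p := by
        rw [hi]
        exact (Nat.pow_le_pow_right hS.hp.pos (show i ≤ 1 by omega)).trans (pow_one p).le
      have e1 := Subgroup.eq_of_le_of_card_ge (le_sup_left : L ≤ L ⊔ L') (hle.trans hc.ge)
      have e2 := Subgroup.eq_of_le_of_card_ge (le_sup_right : L' ≤ L ⊔ L') (hle.trans hc'.ge)
      exact hne (e1.trans e2.symm)
    rw [hi, hA]; exact Nat.pow_le_pow_right hS.hp.pos h1
  -- the averaging map of a line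
  have hzero : ∀ L L' : Subgroup D, L ≤ A → L' ≤ A → Nat.card L = p → Nat.card L' = p → L ≠ L' →
      ∀ v ∈ fixd L', ∀ [Fintype L], ∏ a : L, φ (a : D) v = 1 := by
    intro L L' hL hL' hc hc' hne v hv _
    suffices h : (∏ a : L, φ (a : D) v) ∈ fixd A by rwa [hfA, Subgroup.mem_bot] at h
    rw [hmem, ← hpair L L' hL hL' hc hc' hne]
    intro b hb
    have hstab : L ⊔ L' ≤ ((MulAction.stabilizer (MulAut V) (∏ a : L, φ (a : D) v)).comap φ) := by
      refine sup_le (fun b hb => ?_) (fun b hb => ?_)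
      · show φ b (∏ a : L, φ (a : D) v) = _
        rw [map_prod]
        refine Fintype.prod_equiv (Equiv.mulLeft (⟨b, hb⟩ : L)) _ _ fun a => ?_
        rw [Equiv.coe_mulLeft, Subgroup.coe_mul, map_mul, MulAut.mul_apply]
      · show φ b (∏ a : L, φ (a : D) v) = _
        rw [map_prod]
        refine Finset.prod_congr rfl fun a _ => ?_
        rw [← MulAut.mul_apply, ← map_mul, hAc b (hL' hb) a (hL a.2), map_mul, MulAut.mul_apply,
          hv b hb]
    exact hstab hb
  have hind : iSupIndep fun L : ι => fixd L.1 := by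
    intro L
    rw [Subgroup.disjoint_def]
    intro v hv hv'
    haveI : Fintype L.1 := Fintype.ofFinite _
    let E : V →* V := ∏ a : L.1, (φ (a : D)).toMonoidHom
    have hEv : ∀ w, E w = ∏ a : L.1, φ (a : D) w := fun w => by simp [E, MonoidHom.finsetProd_apply]
    have hle : (⨆ (L' : ι) (_ : L' ≠ L), fixd L'.1) ≤ E.ker := by
      refine iSup₂_le fun L' hne w hw => ?_
      rw [MonoidHom.mem_ker, hEv]
      exact hzero L.1 L'.1 L.2.1 L'.2.1 L.2.2.1 L'.2.2.1 (fun h => hne (Subtype.ext h).symm) w hw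
    have h1 := hle hv'
    rw [MonoidHom.mem_ker, hEv, Finset.prod_congr rfl (fun (a : L.1) _ => hv (a : D) a.2), Finset.prod_const,
      Finset.card_univ, ← Nat.card_eq_fintype_card, L.2.2.1] at h1
    have hd := orderOf_dvd_of_pow_eq_one h1
    have hd' := orderOf_dvd_of_pow_eq_one (hS.expo v)
    rw [← orderOf_eq_one_iff]
    refine Nat.eq_one_of_dvd_one ((Nat.dvd_gcd hd hd').trans (dvd_of_eq ?_))
    refine (Nat.coprime_primes hS.hp hS.hq).2 fun e => hS.ndvd ?_
    rw [← e]
    exact (dvd_pow_self p two_ne_zero).trans (hA ▸ Subgroup.card_subgroup_dvd_card A)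
  haveI : Nontrivial V := hS.nontrivial_space
  obtain ⟨a, ha, b, hb, hgen⟩ : ∃ a ∈ A, ∃ b ∈ A, ∀ i j : ℕ, a ^ i * b ^ j = 1 → p ∣ i ∧ p ∣ j := by
    haveI : Nontrivial A := Finite.one_lt_card_iff_nontrivial.1 (hA ▸ Nat.one_lt_pow two_ne_zero hS.hp.one_lt)
    obtain ⟨⟨a, ha⟩, ha1⟩ := exists_ne (1 : A)
    have ha1' : a ≠ 1 := fun h => ha1 (Subtype.ext h)
    have hao : orderOf a = p := orderOf_eq_prime (hAe a ha) ha1'
    obtain ⟨b, hb, hbn⟩ : ∃ b ∈ A, b ∉ zpowers a := by
      by_contra hno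
      push Not at hno
      have := Subgroup.card_le_of_le (show A ≤ zpowers a from hno)
      rw [Nat.card_zpowers, hao, hA, sq] at this
      have := hS.hp.two_le
      nlinarith
    refine ⟨a, ha, b, hb, fun i j h => ?_⟩
    have hj : p ∣ j := by
      by_contra hj
      refine hbn (Coprime.mem_of_pow_mem ?_ (show b ^ j ∈ zpowers a from ?_))
      · exact ((hS.hp.coprime_iff_not_dvd.2 hj).coprime_dvd_left (orderOf_dvd_of_pow_eq_one (hAe b hb)))
      · rw [eq_inv_of_mul_eq_one_right h]
        exact inv_mem (pow_mem (mem_zpowers a) i)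
    obtain ⟨t, rfl⟩ := hj
    rw [pow_mul b, hAe b hb, one_pow, mul_one] at h
    exact ⟨hao ▸ orderOf_dvd_of_pow_eq_one h, dvd_mul_right p t⟩
  -- some line has a fixed point
  obtain ⟨L0⟩ : Nonempty ι := by
    by_contra hno
    obtain ⟨v, hv⟩ := exists_ne (1 : V)
    have h := Coprime.pow_mem_of_pair_aut (φ a) (φ b) ((show Commute a b from hAc a ha b hb).map φ)
      hS.hp (by rw [← map_pow, hAe a ha, map_one]) (by rw [← map_pow, hAe b hb, map_one]) ⊥
      (fun i j hij w hw => by
        rw [← map_pow, ← map_pow, ← map_mul] at hw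
        set c := a ^ i * b ^ j
        have hc1 : c ≠ 1 := fun h => hij (hgen i j h)
        have hcA : c ∈ A := mul_mem (pow_mem ha i) (pow_mem hb j)
        rw [Subgroup.mem_bot]
        by_contra hw1
        refine hno ⟨⟨zpowers c, zpowers_le.2 hcA, ?_, fun h => hw1 ?_⟩⟩
        · rw [Nat.card_zpowers]; exact orderOf_eq_prime (hAe c hcA) hc1
        · rw [← Subgroup.mem_bot, ← h, hmem]
          intro x hx
          exact (zpowers_le.2 (show c ∈ (MulAction.stabilizer (MulAut V) w).comap φ from hw)) hx) v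
    rw [Subgroup.mem_bot] at h
    refine hv ?_
    have hd := orderOf_dvd_of_pow_eq_one h
    have hd' := orderOf_dvd_of_pow_eq_one (hS.expo v)
    rw [← orderOf_eq_one_iff]
    refine Nat.eq_one_of_dvd_one ((Nat.dvd_gcd hd hd').trans (dvd_of_eq ?_))
    refine (Nat.coprime_primes hS.hp hS.hq).2 fun e => hS.ndvd ?_
    rw [← e]
    exact (dvd_pow_self p two_ne_zero).trans (hA ▸ Subgroup.card_subgroup_dvd_card A)
  -- the action of `P` on the lines
  have hline : ∀ g ∈ P, ∀ L : ι, ∃ L' : ι, L'.1 = L.1.map (MulAut.conj g).toMonoidHom := by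
    intro g hg L
    obtain ⟨h1, h2⟩ := hmap g hg L.1 L.2.1
    refine ⟨⟨_, h1, (Subgroup.card_map_of_injective (MulAut.conj g).injective).trans L.2.2.1, ?_⟩, rfl⟩
    rw [← h2, Ne, Subgroup.map_eq_bot_iff_of_injective _ (φ g).injective]
    exact L.2.2.2
  choose act hact using hline
  letI : MulAction P ι :=
    { smul := fun g L => act g g.2 L
      one_smul := fun L => Subtype.ext (by
        show (act _ _ L).1 = L.1
        rw [hact]; simp only [OneMemClass.coe_one, map_one]; exact Subgroup.map_id _)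
      mul_smul := fun g h L => Subtype.ext (by
        show (act _ _ L).1 = (act _ _ (act _ _ L)).1
        rw [hact, hact, hact, Subgroup.map_map, Subgroup.coe_mul, map_mul]; rfl) }
  have hsmul : ∀ (g : P) (L : ι), fixd (g • L).1 = (fixd L.1).map (φ g).toMonoidHom := by
    intro g L
    show fixd (act g g.2 L).1 = _
    rw [hact, (hmap g g.2 L.1 L.2.1).2]
  have hirr : ∀ S : Set ι, (∀ g : P, ∀ L ∈ S, g • L ∈ S) → S.Nonempty → S = Set.univ := by
    intro S hS' hne
    by_contra hcon
    obtain ⟨M, hM⟩ : ∃ M, M ∉ S := by simpa [Set.eq_univ_iff_forall] using hcon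
    set U := ⨆ L ∈ S, fixd (L : ι).1
    rcases hS.irr U (fun g hg u hu => by
      have hle : U.map (φ g).toMonoidHom ≤ U := by
        simp only [U, Subgroup.map_iSup]
        refine iSup₂_le fun L hL => ?_
        rw [← hsmul ⟨g, hg⟩ L]
        exact le_iSup₂ (f := fun (K : ι) (_ : K ∈ S) => fixd K.1) _ (hS' ⟨g, hg⟩ L hL)
      exact hle ⟨u, hu, rfl⟩) with h | h
    · obtain ⟨L, hL⟩ := hne
      exact L.2.2.2 (le_bot_iff.1
        (le_of_le_of_eq (le_iSup₂ (f := fun (K : ι) (_ : K ∈ S) => fixd K.1) L hL) h))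
    · refine M.2.2.2 (disjoint_self.1 ((hind M).mono_right ?_))
      refine le_trans (h ▸ le_top : fixd M.1 ≤ U) (iSup₂_le fun L hL => ?_)
      exact le_iSup₂ (f := fun (K : ι) (_ : K ≠ M) => fixd K.1) L (fun e => hM (e ▸ hL))
  have htrans : ∀ L L' : ι, ∃ g : P, g • L = L' := by
    intro L L'
    have := hirr (MulAction.orbit P L) (fun g M hM => (MulAction.mem_orbit_of_mem_orbit g) hM)
      ⟨L, MulAction.mem_orbit_self L⟩
    exact MulAction.mem_orbit_iff.1 (this ▸ Set.mem_univ L')
  -- the number of lines is a power of `p` and at most `p + 1`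
  haveI : MulAction.IsPretransitive P ι := ⟨htrans⟩
  obtain ⟨k, hk⟩ : ∃ k, Nat.card ι = p ^ k := by
    obtain ⟨n, hn⟩ := PGroup.exists_card_eq_pow hS.pg
    have hd := (MulAction.stabilizer P L0).index_dvd_card
    rw [MulAction.index_stabilizer_of_transitive, hn] at hd
    obtain ⟨k, -, hk⟩ := (Nat.dvd_prime_pow hS.hp).1 hd
    exact ⟨k, hk⟩
  have hle : Nat.card ι * (p - 1) + 1 ≤ p ^ 2 := by
    haveI := Fintype.ofFinite ι
    let f : Option (Σ L : ι, {a : L.1 // a ≠ 1}) → A := fun o =>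
      o.elim 1 fun x => ⟨x.2.1, x.1.2.1 x.2.1.2⟩
    have hf : Function.Injective f := by
      rintro (_ | ⟨L, a, ha⟩) (_ | ⟨L', a', ha'⟩) h
      · rfl
      · exact (ha' (Subtype.ext (show (a' : D) = ((1 : A) : D) from (congrArg Subtype.val h).symm))).elim
      · exact (ha (Subtype.ext (show (a : D) = ((1 : A) : D) from congrArg Subtype.val h))).elim
      · have e : (a : D) = a' := congrArg Subtype.val h
        have ea : ∀ (M : ι) (c : M.1), c ≠ 1 → M.1 = zpowers (c : D) := fun M c hc =>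
          (Subgroup.eq_of_le_of_card_ge (zpowers_le.2 c.2) (by
            rw [M.2.2.1, Nat.card_zpowers, orderOf_eq_prime (hAe _ (M.2.1 c.2))
              (fun h => hc (Subtype.ext h))])).symm
        have hLL : L = L' := Subtype.ext (by rw [ea L a ha, ea L' a' ha', e])
        subst hLL
        obtain rfl : a = a' := Subtype.ext e
        rfl
    have hcard := Nat.card_le_card_of_injective f hf
    rw [hA, Finite.card_option, Nat.card_sigma] at hcard
    refine le_trans (le_of_eq ?_) hcard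
    congr 1
    rw [Finset.sum_const_nat (m := p - 1) fun L _ => ?_, Finset.card_univ, Nat.card_eq_fintype_card]
    haveI := Fintype.ofFinite L.1
    rw [Nat.card_eq_fintype_card, Fintype.card_subtype_compl, Fintype.card_subtype_eq,
      ← Nat.card_eq_fintype_card, L.2.2.1]
  have hk1 : k = 1 := by
    rcases Nat.lt_trichotomy k 1 with hk0 | hk0 | hk0
    · exfalso
      obtain rfl : k = 0 := by omega
      rw [pow_zero] at hk
      haveI := (Nat.card_eq_one_iff_unique.1 hk).1
      rcases hS.irr (fixd L0.1) (fun g hg v hv => by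
        have e := hsmul ⟨g, hg⟩ L0
        rw [Subsingleton.elim ((⟨g, hg⟩ : P) • L0) L0] at e
        exact e ▸ ⟨v, hv, rfl⟩) with h | h
      · exact L0.2.2.2 h
      · have hbot : L0.1 = ⊥ := by
          rw [eq_bot_iff]
          exact fun x hx => hS.inj (MulEquiv.ext fun v => by
            rw [map_one]; exact (h ▸ mem_top v : v ∈ fixd L0.1) x hx)
        exact absurd (L0.2.2.1.symm.trans (by rw [hbot, Subgroup.card_bot])) hS.hp.one_lt.ne'
    · exact hk0
    · exfalso
      have h2 := Nat.pow_le_pow_right hS.hp.pos hk0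
      rw [← hk] at h2
      have := hS.hp.two_le
      obtain ⟨c, rfl⟩ : ∃ c, p = c + 2 := ⟨p - 2, by omega⟩
      rw [show c + 2 - 1 = c + 1 by omega] at hle
      nlinarith
  refine hS.false_of_blocks (ι := ι) (by rw [hk, hk1, pow_one]) (fun L => fixd L.1)
    (fun L => L.2.2.2) hind (fun g hg L => ⟨(⟨g, hg⟩ : P) • L, (hsmul ⟨g, hg⟩ L).symm⟩) fun L L' => ?_
  obtain ⟨g, rfl⟩ := htrans L L'
  exact ⟨g, g.2, (hsmul g L).symm⟩

end Cfsg.Agent.OrbitPower
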