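import Cfsg.Agent.Lib.OrbitPower.Basic
import Cfsg.Agent.Lib.CyclicRegular.Basic
import Cfsg.Agent.Lib.Involution.IndexTwo

/-!
The two primitive cases (namespace `Cfsg.Agent.OrbitPower`).

* `Setup.false_of_cyclic`: `P` is not cyclic
* `Setup.false_of_irreducible_cyclic`: `P` has no irreducible cyclic subgroup `⟨c⟩` of index 2 whose
  generator is conjugated to a power `≡ 3 (mod 4)`
-/

set_option autoImplicit false

namespace Cfsg.Agent.OrbitPower

open Subgroup

variable {D V : Type*} [Group D] [CommGroup V]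
variable {φ : D →* MulAut V} {P : Subgroup D} {p q : ℕ}

theorem Setup.eq_sup (hS : Setup φ P p q) [Finite D] [Finite V] (v : V) (d : D) :
    ∃ g ∈ P, φ (g⁻¹ * d) v = v := by
  obtain ⟨g, hg, he⟩ := hS.orbit d v
  exact ⟨g, hg, by rw [map_mul, MulAut.mul_apply, ← he, map_inv, MulAut.inv_apply_self]⟩

theorem no_index_two (hperf : commutator D = ⊤) {H : Subgroup D} (h : H.index = 2) : False := by
  haveI := Subgroup.normal_of_index_eq_two h
  have hle : commutator D ≤ H := by
    rw [commutator_eq_closure, closure_le]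
    rintro _ ⟨x, y, rfl⟩
    rw [SetLike.mem_coe, commutatorElement_def, mul_assoc (x * y), Subgroup.mul_mem_iff_of_index_two h,
      Subgroup.mul_mem_iff_of_index_two h, Subgroup.mul_mem_iff_of_index_two h, inv_mem_iff, inv_mem_iff]
  rw [hperf, top_le_iff] at hle
  rw [hle, index_top] at h
  omega

theorem Setup.odd_card (hS : Setup φ P p q) [Finite D] [Finite V] (hp2 : p ≠ 2) : Odd (Nat.card D) := by
  rw [← Nat.not_even_iff_odd]
  intro heven
  haveI : Fact (Nat.Prime 2) := ⟨Nat.prime_two⟩
  obtain ⟨t, ht⟩ := exists_prime_orderOf_dvd_card' 2 (even_iff_two_dvd.1 heven)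
  obtain ⟨u, hu⟩ : ∃ u, φ t u ≠ u := by
    by_contra hno
    push Not at hno
    have : t = 1 := hS.inj (MulEquiv.ext fun u => by rw [map_one]; exact hno u)
    rw [this, orderOf_one] at ht
    omega
  set w := u⁻¹ * φ t u
  have hw : w ≠ 1 := fun h => hu (inv_mul_eq_one.1 h).symm
  have htw : φ t w = w⁻¹ := by
    rw [map_mul, map_inv, ← MulAut.mul_apply, ← map_mul, ← sq, ← ht, pow_orderOf_eq_one, map_one,
      MulAut.one_apply, mul_inv_rev, inv_inv, mul_comm]
  clear_value w
  obtain ⟨g, hg, he⟩ := hS.orbit t w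
  rw [htw] at he
  have hodd : Odd (orderOf g) := by
    obtain ⟨k, hk⟩ := hS.pg ⟨g, hg⟩
    have : orderOf g ∣ p ^ k := orderOf_dvd_of_pow_eq_one (by simpa using congrArg Subtype.val hk)
    exact Odd.of_dvd_nat (hS.hp.odd_of_ne_two hp2).pow this
  have h2 : ∀ k : ℕ, φ ((g * g) ^ k) w = w := by
    intro k
    induction k with
    | zero => rw [pow_zero, map_one]; rfl
    | succ k ih =>
      rw [pow_succ, map_mul, MulAut.mul_apply, map_mul, MulAut.mul_apply, he, map_inv, he, inv_inv, ih]
  obtain ⟨k, hk⟩ := hodd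
  have h3 : φ g w = w := by
    have e : (g * g) ^ (k + 1) = g := by
      rw [← sq, ← pow_mul, show 2 * (k + 1) = orderOf g + 1 by omega, pow_succ, pow_orderOf_eq_one,
        one_mul]
    rw [← e]; exact h2 _
  rw [h3, eq_inv_iff_mul_eq_one, ← sq] at he
  have hd := orderOf_dvd_of_pow_eq_one he
  have hd' := orderOf_dvd_of_pow_eq_one (hS.expo w)
  refine hw ?_
  rw [← orderOf_eq_one_iff]
  refine Nat.eq_one_of_dvd_one ((Nat.dvd_gcd hd hd').trans (dvd_of_eq ?_))
  refine (Nat.coprime_primes Nat.prime_two hS.hq).2 fun e => hS.ndvd ?_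
  rw [← e]
  exact even_iff_two_dvd.1 heven

theorem Setup.false_of_cyclic (hS : Setup φ P p q) [Finite D] [Finite V] (hc : IsCyclic P) : False := by
  classical
  haveI : Fact p.Prime := ⟨hS.hp⟩
  haveI := hS.nt
  haveI : Fact (Nat.Prime 2) := ⟨Nat.prime_two⟩
  by_cases hp2 : p = 2
  · subst hp2
    rcases Nat.even_or_odd (Nat.card D) with heven | hodd
    · let T : Sylow 2 D := hS.pg.toSylow hS.sylow
      obtain ⟨H, hH⟩ := Involution.exists_index_two heven T hc
      exact no_index_two hS.perfect hH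
    · -- `P` would be trivial, so all orbits trivial
      obtain ⟨d, hd⟩ := exists_ne (1 : D)
      refine hd (hS.inj (MulEquiv.ext fun v => ?_))
      obtain ⟨g, hg, he⟩ := hS.orbit d v
      have : orderOf g = 1 := by
        obtain ⟨k, hk⟩ := hS.pg ⟨g, hg⟩
        have h1 : orderOf g ∣ 2 ^ k := orderOf_dvd_of_pow_eq_one (by simpa using congrArg Subtype.val hk)
        obtain ⟨i, -, hi⟩ := (Nat.dvd_prime_pow Nat.prime_two).1 h1
        have h2 : Odd (orderOf g) := Odd.of_dvd_nat hodd (orderOf_dvd_natCard g)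
        rcases i with _ | i
        · simpa using hi
        · rw [hi, pow_succ, mul_comm] at h2
          exact absurd (even_two_mul _) (Nat.not_even_iff_odd.2 h2)
      rw [orderOf_eq_one_iff.1 this] at he
      exact he.symm
  have hodd := hS.odd_card hp2
  haveI := hc
  have hcP := IsCyclic.commutative (α := P)
  -- a maximal subgroup containing a point stabiliser
  letI : MulAction D V := MulAction.compHom V φ
  obtain ⟨v, hv⟩ : ∃ v, MulAction.stabilizer D v ≠ ⊤ := by
    obtain ⟨d, hd⟩ := exists_ne (1 : D)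
    by_contra hno
    push Not at hno
    exact hd (hS.inj (MulEquiv.ext fun u => by
      rw [map_one]; exact (hno u ▸ mem_top d : d ∈ MulAction.stabilizer D u)))
  obtain ⟨M, hM, hKM⟩ := (eq_top_or_exists_le_coatom (MulAction.stabilizer D v)).resolve_left hv
  have hPM : ∀ d : D, ∃ g ∈ P, g⁻¹ * d ∈ M := fun d => by
    obtain ⟨g, hg, he⟩ := hS.eq_sup v d
    exact ⟨g, hg, hKM he⟩
  let π := MulAction.toPermHom D (D ⧸ M)
  have hperf := range_perfect π hS.perfect
  have hPtr : ∀ x y : D ⧸ M, ∃ g ∈ P, π g x = y := by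
    intro x y
    obtain ⟨d, rfl⟩ := QuotientGroup.mk_surjective x
    obtain ⟨e, rfl⟩ := QuotientGroup.mk_surjective y
    obtain ⟨g, hg, hgd⟩ := hPM d
    obtain ⟨h, hh, hhe⟩ := hPM e
    refine ⟨h * g⁻¹, mul_mem hh (inv_mem hg), ?_⟩
    show ((h * g⁻¹ * d : D) : D ⧸ M) = e
    rw [QuotientGroup.eq]
    have : (h * g⁻¹ * d)⁻¹ * e = (g⁻¹ * d)⁻¹ * (h⁻¹ * e) := by group
    rw [this]
    exact mul_mem (inv_mem hgd) hhe
  have htr : MulAction.IsPretransitive π.range (D ⧸ M) := ⟨fun x y => by
    obtain ⟨g, -, he⟩ := hPtr x y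
    exact ⟨⟨π g, g, rfl⟩, he⟩⟩
  have hnd : Nontrivial (D ⧸ M) := QuotientGroup.nontrivial_iff.2 hM.1
  obtain ⟨k, hk⟩ : ∃ k, Nat.card (D ⧸ M) = p ^ k := by
    haveI : MulAction.IsPretransitive P (D ⧸ M) := ⟨fun x y => by
      obtain ⟨g, hg, he⟩ := hPtr x y
      exact ⟨⟨g, hg⟩, he⟩⟩
    obtain ⟨n, hn⟩ := PGroup.exists_card_eq_pow hS.pg
    have hd := (MulAction.stabilizer P ((1 : D) : D ⧸ M)).index_dvd_card
    rw [MulAction.index_stabilizer_of_transitive, hn] at hd
    obtain ⟨k, -, hk⟩ := (Nat.dvd_prime_pow hS.hp).1 hd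
    exact ⟨k, hk⟩
  have h2t : ¬ MulAction.IsMultiplyPretransitive π.range (D ⧸ M) 2 := by
    intro h
    rw [MulAction.is_two_pretransitive_iff] at h
    obtain ⟨x, y, hxy⟩ := hnd.exists_pair_ne
    obtain ⟨⟨_, d, rfl⟩, hdx, hdy⟩ := h hxy hxy.symm
    have hdx' : π d x = y := hdx
    have hdy' : π d y = x := hdy
    have hpow : ∀ n, π d ^ (2 * n + 1) = π (d ^ (2 * n + 1)) := fun n => (map_pow π d _).symm
    obtain ⟨n, hn⟩ : Odd (orderOf d) := Odd.of_dvd_nat hodd (orderOf_dvd_natCard d)
    have h1 : ∀ n, (π d ^ (2 * n + 1)) x = y := by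
      intro n
      induction n with
      | zero => simpa using hdx'
      | succ n ih =>
        rw [show 2 * (n + 1) + 1 = 1 + (1 + (2 * n + 1)) by ring, pow_add, pow_add, pow_one,
          Equiv.Perm.mul_apply, Equiv.Perm.mul_apply, ih, hdy', hdx']
    have h3 := h1 n
    rw [hpow, ← hn, pow_orderOf_eq_one, map_one] at h3
    exact hxy h3
  have hk0 : k ≠ 0 := fun h => by
    rw [h, pow_zero] at hk
    exact absurd (Finite.one_lt_card_iff_nontrivial.2 hnd) (by omega)
  rcases Nat.lt_or_ge k 2 with hk2 | hk2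
  · haveI := Fintype.ofFinite (D ⧸ M)
    rcases S0675.result (by
      rw [← Nat.card_eq_fintype_card, hk, show k = 1 by omega, pow_one]; exact hS.hp) π.range with h | h
    · haveI := h
      have := eq_top_of_perfect_solvable hperf
      obtain ⟨x, y, hxy⟩ := hnd.exists_pair_ne
      obtain ⟨g, hg⟩ := MulAction.exists_smul_eq π.range x y
      rw [Subsingleton.elim g 1, one_smul] at hg
      exact hxy hg
    · exact h2t h
  · refine h2t (CyclicRegular.isMultiplyPretransitive_of_prime_pow htr ?_ hS.hp hk2 hk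
      ((P.map π).subgroupOf π.range) ?_ ⟨⟨fun x y => ?_⟩, fun x => ?_⟩)
    · haveI := htr
      refine (MulAction.isCoatom_stabilizer_iff_preprimitive π.range ((1 : D) : D ⧸ M)).1 ?_
      have hcomap : ∀ S : Subgroup π.range, (S.comap π.rangeRestrict).map π.rangeRestrict = S := fun S =>
        Subgroup.map_comap_eq_self_of_surjective π.rangeRestrict_surjective S
      have hst : (MulAction.stabilizer π.range ((1 : D) : D ⧸ M)).comap π.rangeRestrict = M := by
        ext d
        show ((d * 1 : D) : D ⧸ M) = ((1 : D) : D ⧸ M) ↔ d ∈ M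
        rw [mul_one, QuotientGroup.eq, mul_one, inv_mem_iff]
      refine ⟨fun h => hM.1 ?_, fun S hlt => ?_⟩
      · rw [← hst, h, Subgroup.comap_top]
      · rw [← hcomap S, hM.2 (S.comap π.rangeRestrict) (hst.symm.trans_lt
          ((Subgroup.comap_lt_comap_of_surjective π.rangeRestrict_surjective).2 hlt)),
          Subgroup.map_top_of_surjective _ π.rangeRestrict_surjective]
    · haveI : IsCyclic (P.map π) :=
        isCyclic_of_surjective (π.subgroupMap P) (π.subgroupMap_surjective P)
      exact isCyclic_of_surjective (Subgroup.subgroupOfEquivOfLe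
        (show P.map π ≤ π.range from Subgroup.map_le_range π P)).symm.toMonoidHom (MulEquiv.surjective _)
    · obtain ⟨g, hg, he⟩ := hPtr x y
      exact ⟨⟨⟨π g, g, rfl⟩, ⟨g, hg, rfl⟩⟩, he⟩
    · rw [eq_bot_iff]
      intro c hc
      obtain ⟨g, hg, hgc⟩ := c.2
      refine Subtype.ext (Subtype.ext (Equiv.ext fun y => ?_))
      obtain ⟨h, hh, he⟩ := hPtr x y
      have hcx : (((c : π.range) : Equiv.Perm (D ⧸ M))) x = x := hc
      show (((c : π.range) : Equiv.Perm (D ⧸ M))) y = y
      rw [show (((c : π.range) : Equiv.Perm (D ⧸ M))) = π g from hgc.symm] at hcx ⊢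
      rw [← he]
      have hcom : π g * π h = π h * π g := by
        rw [← map_mul, ← map_mul]
        exact congrArg π (congrArg Subtype.val
          (hcP.is_comm.comm (⟨g, hg⟩ : P) ⟨h, hh⟩))
      rw [← Equiv.Perm.mul_apply, hcom, Equiv.Perm.mul_apply, hcx]

/-- An additive endomorphism is linear over the prime field. -/
def endToZMod (q : ℕ) (W : Type*) [AddCommGroup W] [Module (ZMod q) W] :
    AddMonoid.End W →* Module.End (ZMod q) W where
  toFun f := AddMonoidHom.toZModLinearMap q f
  map_one' := LinearMap.ext fun _ => rfl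
  map_mul' _ _ := LinearMap.ext fun _ => rfl

/-- In dimension at most 2 a perfect coprime group acts freely on the non-trivial vectors. -/
theorem eq_one_of_fix_of_card_le_sq [Finite D] [Finite V] [Fact q.Prime] (hinj : Function.Injective φ)
    (hperf : commutator D = ⊤) (hndvd : ¬ q ∣ Nat.card D) (hexp : ∀ v : V, v ^ q = 1)
    (hcardV : Nat.card (Additive V) ≤ q ^ 2) {d : D} {v : V} (hv : v ≠ 1) (hdv : φ d v = v) : d = 1 := by
  classical
  have hq : q.Prime := Fact.out
  have hexpo : ∀ x : Additive V, q • x = 0 := fun x => hexp (Additive.toMul x)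
  let ρ : D →* AddMonoid.End (Additive V) :=
    { toFun := fun x => (φ x).toMonoidHom.toAdditive
      map_one' := AddMonoidHom.ext fun a => by
        show Additive.ofMul (φ 1 (Additive.toMul a)) = a
        rw [map_one]; rfl
      map_mul' := fun x y => AddMonoidHom.ext fun a => by
        show Additive.ofMul (φ (x * y) (Additive.toMul a)) = Additive.ofMul (φ x (φ y (Additive.toMul a)))
        rw [map_mul]; rfl }
  have hρinj : Function.Injective ρ := fun x y h => hinj (MulEquiv.ext fun v =>
    congrArg Additive.toMul (DFunLike.congr_fun h (Additive.ofMul v)))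
  letI instMod : Module (ZMod q) (Additive V) := by exact AddCommGroup.zmodModule hexpo
  haveI : Module.Finite (ZMod q) (Additive V) := Module.Finite.of_finite
  let L : D →* Module.End (ZMod q) (Additive V) := (endToZMod q (Additive V)).comp ρ
  have hdet : ∀ d, LinearMap.det (L d) = 1 := by
    intro d
    let f : D →* (ZMod q)ˣ := ((LinearMap.det).comp L).toHomUnits
    have hle : commutator D ≤ f.ker := by
      rw [commutator_eq_closure, closure_le]
      rintro _ ⟨x, y, rfl⟩
      rw [SetLike.mem_coe, MonoidHom.mem_ker, map_commutatorElement, commutatorElement_eq_one_iff_mul_comm,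
        mul_comm]
    exact congrArg Units.val (MonoidHom.mem_ker.1 (hle (hperf ▸ mem_top d)))
  have hcop : ∀ d : D, Nat.Coprime (orderOf d) q := fun d => ((hq.coprime_iff_not_dvd.2
    fun h => hndvd (h.trans (orderOf_dvd_natCard d)))).symm
  have hdim : Module.finrank (ZMod q) (Additive V) ≤ 2 := by
    have e := Module.natCard_eq_pow_finrank (K := ZMod q) (V := Additive V)
    rw [Nat.card_zmod] at e
    rw [e] at hcardV
    exact (Nat.pow_le_pow_iff_right hq.one_lt).1 hcardV
  refine hρinj (AddMonoidHom.ext fun x => ?_)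
  rw [map_one]
  show L d x = x
  set w : Additive V := Additive.ofMul v
  have hw : w ≠ 0 := hv
  have hLw : L d w = w := hdv
  by_cases hx : x ∈ Submodule.span (ZMod q) {w}
  · obtain ⟨a, rfl⟩ := Submodule.mem_span_singleton.1 hx
    rw [map_smul, hLw]
  have hli : LinearIndependent (ZMod q) ![w, x] :=
    (LinearIndependent.pair_iff' hw).2 fun a ha => hx (Submodule.mem_span_singleton.2 ⟨a, ha⟩)
  have hcard : Fintype.card (Fin 2) = Module.finrank (ZMod q) (Additive V) := by
    refine le_antisymm hli.fintype_card_le_finrank ?_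
    rw [Fintype.card_fin]; exact hdim
  let b := basisOfLinearIndependentOfCardEqFinrank hli hcard
  have hb : ∀ k, b k = ![w, x] k := fun k => by
    simp [b, coe_basisOfLinearIndependentOfCardEqFinrank]
  set A := b.repr (L d x)
  have h11 : A 1 = 1 := by
    have hM := LinearMap.det_toMatrix b (L d)
    rw [hdet, Matrix.det_fin_two] at hM
    simp only [LinearMap.toMatrix_apply, hb, Matrix.cons_val_zero, Matrix.cons_val_one, hLw] at hM
    have h0 : b.repr w = Finsupp.single 0 1 := by
      rw [← b.repr_self 0, hb]; rfl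
    simp [h0] at hM
    exact hM
  have hdec : L d x = A 0 • w + x := by
    conv_lhs => rw [← b.sum_repr (L d x)]
    rw [Fin.sum_univ_two, hb, hb]
    show A 0 • w + A 1 • x = _
    rw [h11, one_smul]
  have hpow : ∀ n : ℕ, L (d ^ n) x = (n : ZMod q) • A 0 • w + x := by
    intro n
    induction n with
    | zero => simp
    | succ n ih =>
      rw [pow_succ', map_mul, Module.End.mul_apply, ih, map_add, map_smul, map_smul, hLw, hdec,
        Nat.cast_succ, add_smul, one_smul, add_assoc]
  have hord := hpow (orderOf d)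
  rw [pow_orderOf_eq_one, map_one, Module.End.one_apply, eq_comm, add_eq_right, smul_eq_zero] at hord
  rcases hord with h | h
  · exfalso
    rw [ZMod.natCast_eq_zero_iff] at h
    exact hq.not_dvd_one ((Nat.dvd_gcd h dvd_rfl).trans (hcop d).dvd)
  · rw [hdec, h, zero_add]

open scoped IsMulCommutative in
/-- An irreducible cyclic subgroup of index 2 conjugated to a power `≡ 3 (mod 4)` forces dimension at
most 2, which is impossible. -/
theorem Setup.false_of_irreducible_cyclic (hS : Setup φ P p q) [Finite D] [Finite V] (hp2 : p = 2)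
    {c g : D} {m : ℕ} {j : ℤ} (hcm : orderOf c = 2 ^ m) (hm : 2 ≤ m)
    (hg2 : g * g ∈ zpowers c) (hj : g * c * g⁻¹ = c ^ j) (hj4 : (4 : ℤ) ∣ j - 3)
    (hirr : ∀ U : Subgroup V, (∀ u ∈ U, φ c u ∈ U) → U = ⊥ ∨ U = ⊤) : False := by
  classical
  haveI : Fact q.Prime := ⟨hS.hq⟩
  haveI := hS.nt
  haveI : Nontrivial V := hS.nontrivial_space
  have hexpo : ∀ x : Additive V, q • x = 0 := fun x => hS.expo (Additive.toMul x)
  let ρ : D →* AddMonoid.End (Additive V) :=
    { toFun := fun x => (φ x).toMonoidHom.toAdditive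
      map_one' := AddMonoidHom.ext fun a => by
        show Additive.ofMul (φ 1 (Additive.toMul a)) = a
        rw [map_one]; rfl
      map_mul' := fun x y => AddMonoidHom.ext fun a => by
        show Additive.ofMul (φ (x * y) (Additive.toMul a)) = Additive.ofMul (φ x (φ y (Additive.toMul a)))
        rw [map_mul]; rfl }
  have hρinj : Function.Injective ρ := fun x y h => hS.inj (MulEquiv.ext fun v =>
    congrArg Additive.toMul (DFunLike.congr_fun h (Additive.ofMul v)))
  set γ := ρ c with hγ
  let R := Subring.closure ({γ} : Set (AddMonoid.End (Additive V)))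
  have hγR : γ ∈ R := Subring.subset_closure rfl
  have hcommR : ∀ x ∈ R, ∀ y ∈ R, x * y = y * x := by
    intro x hx y hy
    have h1 : R ≤ Subring.centralizer {γ} := Subring.closure_le.2 fun z hz => by
      rw [Set.mem_singleton_iff] at hz; subst hz
      exact fun w hw => by rw [Set.mem_singleton_iff] at hw; rw [hw]
    have h2 : R ≤ Subring.centralizer {x} := Subring.closure_le.2 fun z hz => by
      rw [Set.mem_singleton_iff] at hz; subst hz
      exact fun w hw => by rw [Set.mem_singleton_iff] at hw; rw [hw]; exact (h1 hx γ rfl).symm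
    exact h2 hy x rfl
  letI : CommRing R := { (inferInstance : Ring R) with
    mul_comm := fun x y => Subtype.ext (hcommR x x.2 y y.2) }
  -- invariance
  have hγx : ∀ (r : R) (x : Additive V), γ ((r : AddMonoid.End (Additive V)) x) = (r : AddMonoid.End (Additive V)) (γ x) :=
    fun r x => DFunLike.congr_fun (hcommR γ hγR r r.2) x
  have hker : ∀ r : R, r ≠ 0 → ∀ x : Additive V, (r : AddMonoid.End (Additive V)) x = 0 → x = 0 := by
    intro r hr x hx
    let U : Subgroup V :=
      { carrier := {v | (r : AddMonoid.End (Additive V)) (Additive.ofMul v) = 0}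
        one_mem' := by show (r : AddMonoid.End (Additive V)) 0 = 0; exact map_zero _
        mul_mem' := fun {a b} ha hb => by
          show (r : AddMonoid.End (Additive V)) (Additive.ofMul a + Additive.ofMul b) = 0
          rw [map_add, ha, hb, add_zero]
        inv_mem' := fun {a} ha => by
          show (r : AddMonoid.End (Additive V)) (-Additive.ofMul a) = 0
          rw [map_neg, ha, neg_zero] }
    rcases hirr U (fun u hu => by
      show (r : AddMonoid.End (Additive V)) (γ (Additive.ofMul u)) = 0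
      rw [← hγx, hu, map_zero]) with h | h
    · have : Additive.toMul x ∈ U := hx
      rw [h, Subgroup.mem_bot] at this
      exact this
    · refine absurd (Subtype.ext (AddMonoidHom.ext fun y => ?_)) hr
      exact (h ▸ mem_top (Additive.toMul y) : Additive.toMul y ∈ U)
  haveI : Nontrivial R := ⟨⟨1, 0, fun h => by
    obtain ⟨v, hv⟩ := exists_ne (0 : Additive V)
    exact hv (DFunLike.congr_fun (congrArg Subtype.val h) v)⟩⟩
  haveI : NoZeroDivisors R := ⟨fun {a b} hab => by
    by_contra hne
    push Not at hne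
    obtain ⟨x, hx⟩ : ∃ x, (b : AddMonoid.End (Additive V)) x ≠ 0 := by
      by_contra hno
      push Not at hno
      exact hne.2 (Subtype.ext (AddMonoidHom.ext hno))
    exact hx (hker a hne.1 _ (DFunLike.congr_fun (congrArg Subtype.val hab) x))⟩
  haveI : IsDomain R := NoZeroDivisors.to_isDomain R
  haveI : Finite (AddMonoid.End (Additive V)) := Finite.of_injective (fun f => (f : Additive V → Additive V)) DFunLike.coe_injective
  haveI := Fintype.ofFinite R
  letI : Field R := Fintype.fieldOfDomain R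
  haveI : CharP R q := (CharP.charP_iff_prime_eq_zero hS.hq).2 (Subtype.ext (AddMonoidHom.ext fun x => by
    show (q : AddMonoid.End (Additive V)) x = 0
    rw [AddMonoid.End.natCast_apply]
    exact hexpo x))
  letI : Algebra (ZMod q) R := ZMod.algebra R q
  haveI : Module.Finite (ZMod q) R := Module.Finite.of_finite
  -- conjugation by `g`
  have hconj : ∀ r ∈ R, ρ g * r * ρ g⁻¹ ∈ R := by
    intro r hr
    induction hr using Subring.closure_induction with
    | mem z hz =>
      rw [Set.mem_singleton_iff] at hz; subst hz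
      rw [hγ, ← map_mul, ← map_mul, hj]
      have : ∃ k : ℕ, c ^ j = c ^ k := by
        obtain ⟨k, hk⟩ := (isOfFinOrder_of_finite c).mem_zpowers_iff_mem_range_orderOf.1 (Subgroup.zpow_mem_zpowers c j) |> Finset.mem_image.1
        exact ⟨k, hk.2.symm⟩
      obtain ⟨k, hk⟩ := this
      rw [hk, map_pow]
      exact pow_mem hγR k
    | zero => simp
    | one => rw [mul_one, ← map_mul, mul_inv_cancel, map_one]; exact one_mem R
    | add x y _ _ hx hy => rw [mul_add, add_mul]; exact add_mem hx hy
    | neg x _ hx =>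
      have e : ρ g * -x * ρ g⁻¹ = -(ρ g * x * ρ g⁻¹) := by
        refine eq_neg_of_add_eq_zero_left ?_
        rw [← add_mul, ← mul_add, neg_add_cancel, mul_zero, zero_mul]
      exact e ▸ neg_mem hx
    | mul x y _ _ hx hy =>
      have : ρ g * (x * y) * ρ g⁻¹ = (ρ g * x * ρ g⁻¹) * (ρ g * y * ρ g⁻¹) := by
        have h1 : ρ g⁻¹ * ρ g = 1 := by rw [← map_mul, inv_mul_cancel, map_one]
        simp only [mul_assoc]
        rw [← mul_assoc (ρ g⁻¹) (ρ g), h1, one_mul]
      rw [this]; exact mul_mem hx hy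
  have h1g : ρ g⁻¹ * ρ g = 1 := by rw [← map_mul, inv_mul_cancel, map_one]
  have h2g : ρ g * ρ g⁻¹ = 1 := by rw [← map_mul, mul_inv_cancel, map_one]
  let τ : R →+* R :=
    { toFun := fun r => ⟨ρ g * r * ρ g⁻¹, hconj r r.2⟩
      map_one' := Subtype.ext (by show ρ g * 1 * ρ g⁻¹ = 1; rw [mul_one, h2g])
      map_mul' := fun x y => Subtype.ext (by
        show ρ g * (x.1 * y.1) * ρ g⁻¹ = (ρ g * x.1 * ρ g⁻¹) * (ρ g * y.1 * ρ g⁻¹)
        simp only [mul_assoc]
        rw [← mul_assoc (ρ g⁻¹) (ρ g), h1g, one_mul])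
      map_zero' := Subtype.ext (by show ρ g * 0 * ρ g⁻¹ = 0; simp)
      map_add' := fun x y => Subtype.ext (by
        show ρ g * (x.1 + y.1) * ρ g⁻¹ = ρ g * x.1 * ρ g⁻¹ + ρ g * y.1 * ρ g⁻¹
        rw [mul_add, add_mul]) }
  let τa : R →ₐ[ZMod q] R := { τ with
    commutes' := fun z => RingHom.congr_fun (Subsingleton.elim (τ.comp (algebraMap (ZMod q) R)) (algebraMap (ZMod q) R)) z }
  let τe : R ≃ₐ[ZMod q] R := AlgEquiv.ofBijective τa
    (Finite.injective_iff_bijective.1 τ.injective)
  obtain ⟨⟨i, hilt⟩, hi⟩ := (FiniteField.bijective_frobeniusAlgEquivOfAlgebraic_pow (ZMod q) R).2 τe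
  let G0 : R := ⟨γ, hγR⟩
  have hγpow : ∀ k : ℕ, G0 ^ k = ⟨ρ (c ^ k), by rw [map_pow]; exact pow_mem hγR k⟩ := fun k => by
    refine Subtype.ext ?_
    show γ ^ k = ρ (c ^ k)
    rw [map_pow]
  have hfrob : ∀ r : R, τ r = r ^ q ^ i := by
    intro r
    have h := DFunLike.congr_fun hi r
    simp only [AlgEquiv.coe_pow, FiniteField.coe_frobeniusAlgEquivOfAlgebraic_iterate, ZMod.card] at h
    exact h.symm
  have hcj : c ^ j = c ^ (q ^ i) := by
    have h : ρ g * γ * ρ g⁻¹ = ρ (c ^ q ^ i) := congrArg Subtype.val ((hfrob G0).trans (hγpow _))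
    refine hρinj ?_
    rw [← hj, ← h, map_mul, map_mul]
  have hqodd : Odd q := hS.hq.odd_of_ne_two fun h => by
    subst h
    exact hS.ndvd (((dvd_pow_self 2 (show m ≠ 0 by omega)).trans hcm.symm.dvd).trans (orderOf_dvd_natCard c))
  have hiodd : Odd i := by
    by_contra hev
    rw [Nat.not_odd_iff_even] at hev
    obtain ⟨t, rfl⟩ := hev
    rw [← zpow_natCast, ← mul_inv_eq_one, ← zpow_sub, ← orderOf_dvd_iff_zpow_eq_one, hcm] at hcj
    have h42 : (4 : ℤ) ∣ ((2 ^ m : ℕ) : ℤ) := by
      push_cast; exact Dvd.dvd.trans (by norm_num) (pow_dvd_pow (2 : ℤ) hm)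
    have h4 := h42.trans hcj
    obtain ⟨s, hs⟩ : Odd (q ^ t) := hqodd.pow
    have e : ((q ^ (t + t) : ℕ) : ℤ) = 4 * ((s : ℤ) * s + s) + 1 := by
      rw [← two_mul, mul_comm, pow_mul, hs]; push_cast; ring
    rw [e] at h4
    omega
  -- `γ` is fixed by the square of the Frobenius
  have hfix : G0 ^ (q ^ 2) = G0 := by
    let F : R → R := fun r => r ^ q ^ 2
    have hiter : ∀ n r, F^[n] r = r ^ (q ^ 2) ^ n := fun n r => by
      show (fun r : R => r ^ q ^ 2)^[n] r = _
      rw [pow_iterate]
    have hp1 : Function.IsPeriodicPt F i G0 := by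
      show F^[i] G0 = G0
      rw [hiter, ← pow_mul, mul_comm, pow_mul, sq, pow_mul, ← hfrob, ← hfrob]
      refine Subtype.ext ?_
      show ρ g * (ρ g * γ * ρ g⁻¹) * ρ g⁻¹ = γ
      rw [hγ, ← map_mul, ← map_mul, ← map_mul, ← map_mul]
      congr 1
      obtain ⟨l, hl⟩ := mem_zpowers_iff.1 hg2
      have : g * (g * c * g⁻¹) * g⁻¹ = (g * g) * c * (g * g)⁻¹ := by group
      rw [this, ← hl]; group
    have hp2' : Function.IsPeriodicPt F (2 ^ m) G0 := by
      show F^[2 ^ m] G0 = G0
      rw [hiter, hγpow]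
      refine Subtype.ext ?_
      show ρ (c ^ (q ^ 2) ^ 2 ^ m) = γ
      rw [hγ]; congr 1
      conv_rhs => rw [← pow_one c]
      rw [pow_eq_pow_iff_modEq, hcm]
      have hco : Nat.Coprime (q ^ 2) (2 ^ m) :=
        Nat.Coprime.pow _ _ ((Nat.coprime_two_right).2 hqodd)
      have := Nat.ModEq.pow_totient hco
      rw [Nat.totient_prime_pow Nat.prime_two (by omega)] at this
      have h2 : 2 ^ m = 2 ^ (m - 1) * (2 - 1) * 2 := by
        simp; rw [← pow_succ]; congr 1; omega
      rw [h2] at this ⊢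
      rw [pow_mul]
      simpa using this.pow 2
    have := hp1.gcd hp2'
    rw [show Nat.gcd i (2 ^ m) = 1 from Nat.Coprime.pow_right _ ((Nat.coprime_two_right).2 hiodd)] at this
    exact this
  have hall : ∀ r : R, r ^ (q ^ 2) = r := by
    intro r
    obtain ⟨r, hr⟩ := r
    induction hr using Subring.closure_induction with
    | mem z hz => rw [Set.mem_singleton_iff] at hz; subst hz; exact hfix
    | zero => exact zero_pow (pow_ne_zero 2 hS.hq.ne_zero)
    | one => exact one_pow _
    | add x y hx hy ihx ihy =>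
      show ((⟨x, hx⟩ : R) + ⟨y, hy⟩) ^ q ^ 2 = ⟨x, hx⟩ + ⟨y, hy⟩
      rw [add_pow_char_pow, ihx, ihy]
    | neg x hx ihx =>
      show (-(⟨x, hx⟩ : R)) ^ q ^ 2 = -⟨x, hx⟩
      rw [neg_pow, ihx, hqodd.pow.neg_one_pow, neg_one_mul]
    | mul x y hx hy ihx ihy =>
      show ((⟨x, hx⟩ : R) * ⟨y, hy⟩) ^ q ^ 2 = ⟨x, hx⟩ * ⟨y, hy⟩
      rw [mul_pow, ihx, ihy]
  -- hence `|V| ≤ q ^ 2`
  have hcardR : Nat.card R ≤ q ^ 2 := by
    rw [Nat.card_eq_fintype_card, ← Finset.card_univ]
    have hne : (Polynomial.X ^ (q ^ 2) - Polynomial.X : Polynomial R) ≠ 0 :=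
      FiniteField.X_pow_card_sub_X_ne_zero R (Nat.one_lt_pow two_ne_zero hS.hq.one_lt)
    calc Finset.univ.card ≤ (Polynomial.X ^ (q ^ 2) - Polynomial.X : Polynomial R).roots.toFinset.card := by
          refine Finset.card_le_card fun r _ => ?_
          rw [Multiset.mem_toFinset, Polynomial.mem_roots hne, Polynomial.IsRoot, Polynomial.eval_sub,
            Polynomial.eval_pow, Polynomial.eval_X, hall, sub_self]
      _ ≤ _ := (Multiset.toFinset_card_le _).trans (Polynomial.card_roots' _)
      _ = q ^ 2 := FiniteField.X_pow_card_sub_X_natDegree_eq R (Nat.one_lt_pow two_ne_zero hS.hq.one_lt)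
  have hcardV : Nat.card (Additive V) ≤ q ^ 2 := by
    obtain ⟨v, hv⟩ := exists_ne (1 : V)
    refine le_trans (Nat.card_le_card_of_surjective (fun r : R => (r : AddMonoid.End (Additive V)) (Additive.ofMul v)) ?_) hcardR
    let U : Subgroup V :=
      { carrier := {u | ∃ r : R, (r : AddMonoid.End (Additive V)) (Additive.ofMul v) = Additive.ofMul u}
        one_mem' := ⟨0, rfl⟩
        mul_mem' := fun {a b} ⟨r, hr⟩ ⟨s, hs⟩ => ⟨r + s, by
          show (r : AddMonoid.End (Additive V)) _ + (s : AddMonoid.End (Additive V)) _ = _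
          rw [hr, hs]; rfl⟩
        inv_mem' := fun {a} ⟨r, hr⟩ => ⟨-r, by
          show -((r : AddMonoid.End (Additive V)) _) = _
          rw [hr]; rfl⟩ }
    rcases hirr U (fun u hu => by
      obtain ⟨r, hr⟩ := hu
      exact ⟨G0 * r, by
        show γ ((r : AddMonoid.End (Additive V)) _) = _
        rw [hr]; rfl⟩) with h | h
    · have : v ∈ U := ⟨1, rfl⟩
      rw [h, Subgroup.mem_bot] at this
      exact absurd this hv
    · intro u
      exact (h ▸ mem_top (Additive.toMul u) : Additive.toMul u ∈ U)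
  have hfree : ∀ (d : D) (v : V), v ≠ 1 → φ d v = v → d = 1 := fun d v hv hdv =>
    eq_one_of_fix_of_card_le_sq hS.inj hS.perfect hS.ndvd hS.expo hcardV hv hdv
  -- so `D = P`
  obtain ⟨v, hv⟩ := exists_ne (1 : V)
  have htop : P = ⊤ := by
    rw [eq_top_iff]
    intro d _
    obtain ⟨x, hx, he⟩ := hS.eq_sup v d
    rwa [← inv_mul_eq_one.1 (hfree _ v hv he)]
  haveI : Fact p.Prime := ⟨hS.hp⟩
  haveI : Group.IsNilpotent D := by
    have := hS.pg
    rw [htop] at this
    exact (IsPGroup.of_equiv this Subgroup.topEquiv).isNilpotent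
  exact not_subsingleton D (eq_top_of_perfect_solvable hS.perfect)

end Cfsg.Agent.OrbitPower
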