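import Cfsg.Agent.Lib.OrbitPower.TwoGroup
import Cfsg.Agent.Lib.OrbitPower.Primitive
import Cfsg.Agent.Lib.Frobenius.Residual
import Cfsg.Agent.Lib.PGroup.Critical
import Cfsg.Agent.Lib.Kazarin.Main
import Cfsg.Agent.S0126

/-!
A finite group acting faithfully and coprimely on an abelian `q`-group with all orbits of `p`-power
length is solvable (`isSolvable_of_orbits`).
-/

set_option autoImplicit false

namespace Cfsg.Agent.OrbitPower

open Subgroup

variable {D V : Type*} [Group D] [CommGroup V] {φ : D →* MulAut V} {P : Subgroup D} {p q : ℕ}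

theorem Setup.contradiction (hS : Setup φ P p q) [Finite D] [Finite V] : False := by
  haveI : Fact p.Prime := ⟨hS.hp⟩
  by_cases hc : IsCyclic P
  · exact hS.false_of_cyclic hc
  by_cases hp2 : p = 2
  · subst hp2
    by_cases hno : NoFour P
    · rcases cyclic_or_index_two hS.pg hno with h | ⟨a, g, m, j, ha, hm, hidx, hg, hconj, hj4⟩
      · exact hc h
      haveI := Subgroup.normal_of_index_eq_two hidx
      set M := (zpowers a).map P.subtype with hM
      have hMz : M = zpowers (a : D) := by rw [hM, MonoidHom.map_zpowers]; rfl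
      have hgg : g * g ∈ zpowers a := Subgroup.mul_self_mem_of_index_two hidx g
      by_cases hirr : ∀ U : Subgroup V, (∀ u ∈ U, φ (a : D) u ∈ U) → U = ⊥ ∨ U = ⊤
      · refine hS.false_of_irreducible_cyclic rfl (c := (a : D)) (g := (g : D)) (m := m) (j := j)
          (by rw [Subgroup.orderOf_coe]; exact ha) hm (hMz ▸ mem_map_of_mem P.subtype hgg) ?_ hj4 hirr
        have := congrArg Subtype.val hconj
        simpa using this
      · push Not at hirr
        obtain ⟨U, hU, hUb, hUt⟩ := hirr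
        refine hS.false_of_index_two rfl (M := M) (map_subtype_le _) (g := (g : D)) g.2 ?_
          (mem_map_of_mem P.subtype hgg) ?_ U ?_ hUb hUt
        · rintro _ ⟨y, hy, rfl⟩
          refine ⟨g⁻¹ * y * g, ?_, by simp⟩
          have := (inferInstance : (zpowers a).Normal).conj_mem y hy g⁻¹
          simpa using this
        · intro x hx
          by_cases h : (⟨x, hx⟩ : P) ∈ zpowers a
          · exact Or.inl ⟨⟨x, hx⟩, h, rfl⟩
          · refine Or.inr ⟨g⁻¹ * ⟨x, hx⟩, ?_, by simp⟩
            rw [SetLike.mem_coe, Subgroup.mul_mem_iff_of_index_two hidx, inv_mem_iff]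
            exact ⟨fun h' => absurd h' hg, fun h' => absurd h' h⟩
        · intro y hy u hu
          rw [hMz, ← mem_powers_iff_mem_zpowers, Submonoid.mem_powers_iff] at hy
          obtain ⟨n, rfl⟩ := hy
          induction n with
          | zero => simpa using hu
          | succ n ih => rw [pow_succ', map_mul, MulAut.mul_apply]; exact hU _ ih
    · simp only [NoFour, not_forall] at hno
      obtain ⟨E, hE, hcard, hexp, -⟩ := hno
      refine hS.false_of_elementary (A := E.map P.subtype) (map_subtype_le _) ?_ ?_ ?_ ?_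
      · rintro x hx _ ⟨e, he, rfl⟩
        exact ⟨⟨x, hx⟩ * e * ⟨x, hx⟩⁻¹, hE.conj_mem e he _, rfl⟩
      · rw [Nat.card_congr (E.equivMapOfInjective _ P.subtype_injective).toEquiv.symm, hcard]; rfl
      · rintro _ ⟨e, he, rfl⟩
        rw [← map_pow, hexp e he, map_one]
      · rintro _ ⟨x, hx, rfl⟩ _ ⟨y, hy, rfl⟩
        rw [← map_mul, ← map_mul]
        congr 1
        have h1 := hexp _ (E.mul_mem hx hy)
        have hx1 := hexp x hx
        have hy1 := hexp y hy
        rw [pow_two] at h1 hx1 hy1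
        calc x * y = (x * y)⁻¹ := eq_inv_of_mul_eq_one_left h1
          _ = y * x := by
            rw [mul_inv_rev, inv_eq_of_mul_eq_one_right hx1, inv_eq_of_mul_eq_one_right hy1]
  · obtain ⟨A, hAn, ⟨hAc, hAe⟩, hcard⟩ := Cfsg.Agent.S0126.result hp2 hS.pg hc
    refine hS.false_of_elementary (A := A.map P.subtype) (map_subtype_le _) ?_ ?_ ?_ ?_
    · rintro x hx _ ⟨e, he, rfl⟩
      exact ⟨⟨x, hx⟩ * e * ⟨x, hx⟩⁻¹, hAn.conj_mem e he _, rfl⟩
    · rw [Nat.card_congr (A.equivMapOfInjective _ P.subtype_injective).toEquiv.symm, hcard]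
    · rintro _ ⟨e, he, rfl⟩
      rw [← map_pow, hAe e he, map_one]
    · rintro _ ⟨x, hx, rfl⟩ _ ⟨y, hy, rfl⟩
      rw [← map_mul, ← map_mul]
      exact congrArg P.subtype (congrArg Subtype.val (hAc.is_comm.comm ⟨x, hx⟩ ⟨y, hy⟩))

/-- The stabiliser of `v` under `φ`. -/
def stab (φ : D →* MulAut V) (v : V) : Subgroup D where
  carrier := {a | φ a v = v}
  one_mem' := by simp
  mul_mem' := fun {a b} (ha : φ a v = v) (hb : φ b v = v) => by
    show φ (a * b) v = v
    rw [map_mul, MulAut.mul_apply, hb, ha]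
  inv_mem' := fun {a} (ha : φ a v = v) => by
    show φ a⁻¹ v = v
    conv_lhs => rw [← ha]
    rw [map_inv, MulAut.inv_apply_self]

/-- A Sylow `p`-subgroup is transitive on the cosets of a subgroup of `p`-power index. -/
theorem exists_mem_sylow_mul {X : Type*} [Group X] [Finite X] [hp : Fact p.Prime] (T : Sylow p X)
    (S : Subgroup X) {j : ℕ} (hj : S.index = p ^ j) (d : X) : ∃ g ∈ (T : Subgroup X), g⁻¹ * d ∈ S := by
  have h1 : p ^ j ∣ S.relIndex (T : Subgroup X) := by
    have h2 : S.index ∣ (S ⊓ (T : Subgroup X)).index := index_dvd_of_le inf_le_left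
    rw [← relIndex_mul_index (inf_le_right : S ⊓ (T : Subgroup X) ≤ T), inf_relIndex_right, hj] at h2
    exact ((Nat.Coprime.pow_left j (hp.out.coprime_iff_not_dvd.2 T.not_dvd_index))).dvd_of_dvd_mul_right h2
  let f : (T : Subgroup X) ⧸ S.subgroupOf (T : Subgroup X) → X ⧸ S :=
    Quotient.map' (fun x => (x : X)) fun a b h => by
      rw [QuotientGroup.leftRel_apply] at h ⊢
      exact h
  have hf : Function.Injective f := by
    rintro ⟨a⟩ ⟨b⟩ h
    exact QuotientGroup.eq.2 (QuotientGroup.eq.1 h : (a : X)⁻¹ * b ∈ S)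
  have hpos : 0 < S.relIndex (T : Subgroup X) := (Nat.card_pos : 0 < Nat.card ((T : Subgroup X) ⧸ S.subgroupOf (T : Subgroup X)))
  have hcard : Nat.card (X ⧸ S) ≤ Nat.card ((T : Subgroup X) ⧸ S.subgroupOf (T : Subgroup X)) := by
    show S.index ≤ S.relIndex (T : Subgroup X)
    rw [hj]
    exact Nat.le_of_dvd hpos h1
  obtain ⟨⟨g⟩, hg⟩ := (hf.bijective_of_nat_card_le hcard).2 (QuotientGroup.mk d)
  exact ⟨g, g.2, QuotientGroup.eq.1 hg⟩

/-- Coprime faithful action on an abelian `q`-group with orbit lengths powers of `p`. -/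
theorem isSolvable_of_orbits [Finite D] [Finite V] (hp : p.Prime) (hq : q.Prime)
    (hinj : Function.Injective φ) (hndvd : ¬ q ∣ Nat.card D) (hV : IsPGroup q V)
    (horb : ∀ v : V, ∃ k, (stab φ v).index = p ^ k) : Group.IsSolvable D := by
  classical
  haveI : Fact p.Prime := ⟨hp⟩
  haveI : Fact q.Prime := ⟨hq⟩
  by_contra hns
  obtain ⟨R, hRn, hRp, -, hRb⟩ := Frobenius.exists_perfect_residual D
  have hperf : commutator R = ⊤ := Frobenius.commutator_eq_top_of_perfect hRp
  obtain ⟨T⟩ : Nonempty (Sylow p R) := inferInstance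
  have hT : ∀ (d : R) (v : V), ∃ g ∈ (T : Subgroup R), φ (g : D) v = φ (d : D) v := by
    intro d v
    obtain ⟨k, hk⟩ := horb v
    obtain ⟨j, -, hj⟩ := (Nat.dvd_prime_pow hp).1 (hk ▸ Kazarin.relIndex_dvd_index (stab φ v) R)
    obtain ⟨g, hg, he⟩ := exists_mem_sylow_mul T ((stab φ v).subgroupOf R) hj d
    refine ⟨g, hg, ?_⟩
    have h' : φ (((g⁻¹ * d : R)) : D) v = v := he
    conv_lhs => rw [← h']
    rw [← MulAut.mul_apply, ← map_mul, ← coe_mul, mul_inv_cancel_left]
  -- elements of order dividing `q`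
  let Ω : Subgroup V :=
    { carrier := {v | v ^ q = 1}
      one_mem' := one_pow q
      mul_mem' := fun {a b} (ha : a ^ q = 1) (hb : b ^ q = 1) => by
        show (a * b) ^ q = 1
        rw [mul_pow, ha, hb, one_mul]
      inv_mem' := fun {a} (ha : a ^ q = 1) => by
        show (a⁻¹) ^ q = 1
        rw [inv_pow, ha, inv_one] }
  obtain ⟨d₀, ω, hω, hmove⟩ : ∃ (d : R) (v : V), v ^ q = 1 ∧ φ (d : D) v ≠ v := by
    by_contra hno
    push Not at hno
    refine hns (hRb ?_)
    rw [eq_bot_iff]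
    intro d hd
    refine mem_bot.2 (hinj (MulEquiv.ext fun v => ?_))
    rw [map_one, MulAut.one_apply]
    exact PGroup.fixed_of_fix_order_p_abelian hV (a := φ d)
      (((hq.coprime_iff_not_dvd.2 fun h => hndvd
        ((h.trans (orderOf_map_dvd φ d)).trans (orderOf_dvd_natCard d)))).symm)
      (A := ⊤) (fun x _ y _ => mul_comm x y) (fun x _ => mem_top _)
      (fun x _ hx => hno ⟨d, hd⟩ x hx) v (mem_top v)
  haveI := Fintype.ofFinite R
  let E : V →* V := ∏ d : R, (φ (d : D)).toMonoidHom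
  have hE : ∀ v, E v = ∏ d : R, φ (d : D) v := fun v => MonoidHom.finsetProd_apply _ _ _
  have hEinv : ∀ (e : R) (v : V), E (φ (e : D) v) = E v := by
    intro e v
    rw [hE, hE]
    refine Fintype.prod_equiv (Equiv.mulRight e) _ _ fun d => ?_
    rw [Equiv.coe_mulRight, coe_mul, map_mul, MulAut.mul_apply]
  set U₀ := E.ker ⊓ Ω
  have hU₀b : U₀ ≠ ⊥ := fun h => hmove (by
    have : φ (d₀ : D) ω / ω ∈ U₀ := ⟨by show E (φ (d₀ : D) ω / ω) = 1; rw [map_div, hEinv, div_self'],
      Ω.div_mem (by show (φ (d₀ : D) ω) ^ q = 1; rw [← map_pow, hω, map_one]) hω⟩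
    rw [h, mem_bot, div_eq_one] at this
    exact this)
  have hU₀inv : ∀ (d : R), ∀ u ∈ U₀, φ (d : D) u ∈ U₀ := by
    rintro d u ⟨hu1, hu2⟩
    exact ⟨by show E (φ (d : D) u) = 1; rw [hEinv]; exact hu1,
      by show (φ (d : D) u) ^ q = 1; rw [← map_pow, show u ^ q = 1 from hu2, map_one]⟩
  have hndR : ¬ q ∣ Nat.card R := fun h => hndvd (h.trans (card_subgroup_dvd_card R))
  have hfix : ∀ u ∈ U₀, (∀ d : R, φ (d : D) u = u) → u = 1 := by
    rintro u ⟨hu1, hu2⟩ hf
    have h1 : u ^ Nat.card R = 1 := by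
      have := MonoidHom.mem_ker.1 hu1
      rw [hE, Finset.prod_congr rfl fun d _ => hf d, Finset.prod_const, Finset.card_univ,
        ← Nat.card_eq_fintype_card] at this
      exact this
    have h2 := Nat.dvd_gcd (orderOf_dvd_of_pow_eq_one h1)
      (orderOf_dvd_of_pow_eq_one (show u ^ q = 1 from hu2))
    rwa [Nat.Coprime.gcd_eq_one (hq.coprime_iff_not_dvd.2 hndR).symm, Nat.dvd_one,
      orderOf_eq_one_iff] at h2
  obtain ⟨V₀, hV₀⟩ := (Set.toFinite {U : Subgroup V | U ≤ U₀ ∧ U ≠ ⊥ ∧
      ∀ g ∈ (T : Subgroup R), ∀ u ∈ U, φ (g : D) u ∈ U}).exists_minimal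
    ⟨U₀, le_rfl, hU₀b, fun g _ => hU₀inv g⟩
  obtain ⟨⟨hle, hb, hinv⟩, hmin⟩ := hV₀
  have hDinv : ∀ (d : R), ∀ u ∈ V₀, φ (d : D) u ∈ V₀ := by
    intro d u hu
    obtain ⟨g, hg, he⟩ := hT d u
    exact he ▸ hinv g hg u hu
  let res : R → MulAut V₀ := fun d =>
    { toFun := fun u => ⟨φ (d : D) u, hDinv d u u.2⟩
      invFun := fun u => ⟨φ ((d⁻¹ : R) : D) u, hDinv _ u u.2⟩
      left_inv := fun u => Subtype.ext (by simp)
      right_inv := fun u => Subtype.ext (by simp)
      map_mul' := fun u w => Subtype.ext (by simp) }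
  let f : R →* MulAut V₀ := MonoidHom.mk' res fun a b => MulEquiv.ext fun u => Subtype.ext (by
    show φ ((a * b : R) : D) u = φ (a : D) (φ (b : D) u)
    rw [coe_mul, map_mul, MulAut.mul_apply])
  have hfapp : ∀ (d : R) (u : V₀), ((f d u : V₀) : V) = φ (d : D) u := fun _ _ => rfl
  obtain ⟨v₁, hv₁⟩ : ∃ v : V₀, v ≠ 1 := by
    by_contra hno
    push Not at hno
    exact hb (eq_bot_iff.2 fun x hx => mem_bot.2 (congrArg Subtype.val (hno ⟨x, hx⟩)))
  have hfnt : Nontrivial f.range := by
    rw [Subgroup.nontrivial_iff_ne_bot, Ne, MonoidHom.range_eq_bot_iff]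
    intro h
    apply hv₁
    refine Subtype.ext (hfix _ (hle v₁.2) fun d => ?_)
    have := hfapp d v₁
    rw [h] at this
    simpa using this.symm
  have hS : Setup f.range.subtype ((T : Subgroup R).map f.rangeRestrict) p q :=
    { hp := hp
      hq := hq
      inj := Subtype.val_injective
      perfect := range_perfect f hperf
      nt := hfnt
      pg := T.isPGroup'.map _
      sylow := fun h => T.not_dvd_index
        (h.trans (index_map_dvd _ f.rangeRestrict_surjective))
      ndvd := fun h => hndR (h.trans (card_range_dvd f))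
      expo := fun v => Subtype.ext (by
        rw [SubgroupClass.coe_pow]
        exact (hle v.2).2)
      orbit := fun d v => by
        obtain ⟨_, d', rfl⟩ := d
        obtain ⟨g, hg, he⟩ := hT d' (v : V)
        exact ⟨f.rangeRestrict g, mem_map_of_mem _ hg, Subtype.ext he⟩
      irr := fun U hU => by
        by_contra hne
        push Not at hne
        have h1 : (U.map V₀.subtype) ≤ V₀ := map_subtype_le U
        have h2 := hmin (y := U.map V₀.subtype) ⟨h1.trans hle, fun h => hne.1
          ((map_eq_bot_iff_of_injective _ V₀.subtype_injective).1 h), fun g hg => by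
            rintro _ ⟨u, hu, rfl⟩
            exact ⟨f g u, hU (f.rangeRestrict g) (mem_map_of_mem _ hg) u hu, hfapp g u⟩⟩ h1
        exact hne.2 (eq_top_iff.2 fun u _ => (mem_map_iff_mem V₀.subtype_injective).1 (h2 u.2)) }
  exact hS.contradiction

end Cfsg.Agent.OrbitPower
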